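import Cfsg.Agent.Comp.Fi23.Main
import Cfsg.Agent.Comp.Trans

set_option autoImplicit false
set_option maxRecDepth 100000

namespace Cfsg.Agent.Comp.Fi23
open Cfsg.Agent.Comp

theorem st0 {bs : List ℕ} {m : ℕ} (h : BaseGe (genW (sig T) lowW1) bs m) :
    BaseGe (genW (sig T) (letters 10)) (0 :: bs) (31671 * m) :=
  BaseGe.step (W' := lowW1) (b := 0) (n := 31671) ok (le_of_subOK eqs (show subOK (letters 10) lowW1 E = true by decide +kernel)) (by decide +kernel)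
    (le_ncard_of_ivl (a := 0) ok (by norm_num) (show Nat.beq (grow T (letters 10) [7, 6, 5, 4, 3, 2, 8, 1, 9, 3, 0, 4, 2, 5, 8, 3, 6, 7, 4, 8, 1, 2, 9, 5, 3, 1, 6, 8, 4, 2, 0, 7, 3, 9, 5, 1, 6, 2, 8, 4, 1, 3, 0, 9, 2, 1, 4, 5, 0, 8, 3, 2, 6, 3, 1] (pt (nat_lit 0))) (ivl (nat_lit 0) (nat_lit 31671)) = true by decide +kernel)) h

theorem st1 {bs : List ℕ} {m : ℕ} (h : BaseGe (genW (sig T) lowW2) bs m) :
    BaseGe (genW (sig T) lowW1) (1 :: bs) (3510 * m) :=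
  BaseGe.step (W' := lowW2) (b := 1) (n := 3510) ok (le_of_subOK eqs (show subOK lowW1 lowW2 E = true by decide +kernel)) (by decide +kernel)
    (le_ncard_of_ivl (a := 1) ok (by norm_num) (show Nat.beq (grow T lowW1 [1, 8, 0, 2, 7, 3, 4, 7, 1, 2, 5, 3, 8, 6, 1, 7, 4, 2, 0, 3, 5, 8, 4, 7, 2, 1, 6, 3, 2, 0, 4, 1, 5, 7] (pt (nat_lit 1))) (ivl (nat_lit 1) (nat_lit 3510)) = true by decide +kernel)) h

theorem st2 {bs : List ℕ} {m : ℕ} (h : BaseGe (genW (sig T) lowW3) bs m) :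
    BaseGe (genW (sig T) lowW2) (3511 :: bs) (25344 * m) :=
  BaseGe.step (W' := lowW3) (b := 3511) (n := 25344) ok (le_of_subOK eqs (show subOK lowW2 lowW3 E = true by decide +kernel)) (by decide +kernel)
    (le_ncard_of_orbGe ok (by norm_num) (show orbGe (nat_lit 31671) (nat_lit 15) T lowW2 [5, 4, 7, 2, 7, 0, 3, 5, 7, 4, 7, 0, 2, 7, 5, 3, 7, 4, 7, 0, 3, 7, 2, 7, 5, 0] (nat_lit 3511) (nat_lit 25344) = true by decide +kernel)) h

theorem st3 {bs : List ℕ} {m : ℕ} (h : BaseGe (genW (sig T) lowW4) bs m) :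
    BaseGe (genW (sig T) lowW3) (4212 :: bs) (15120 * m) :=
  BaseGe.step (W' := lowW4) (b := 4212) (n := 15120) ok (le_of_subOK eqs (show subOK lowW3 lowW4 E = true by decide +kernel)) (by decide +kernel)
    (le_ncard_of_orbGe ok (by norm_num) (show orbGe (nat_lit 31671) (nat_lit 15) T lowW3 [0, 1, 3, 5, 6, 2, 6, 3, 0, 6, 1, 6, 2, 0, 6, 3, 6, 1, 2, 6, 0] (nat_lit 4212) (nat_lit 15120) = true by decide +kernel)) h

theorem st4 {bs : List ℕ} {m : ℕ} (h : BaseGe (genW (sig T) []) bs m) :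
    BaseGe (genW (sig T) lowW4) (33 :: bs) (96 * m) :=
  BaseGe.step (W' := []) (b := 33) (n := 96) ok (le_of_subOK eqs (show subOK lowW4 [] E = true by decide +kernel)) (by decide +kernel)
    (le_ncard_of_orbGe ok (by norm_num) (show orbGe (nat_lit 31671) (nat_lit 15) T lowW4 [0, 1, 2, 3, 2, 3, 2, 3, 2, 2] (nat_lit 33) (nat_lit 96) = true by decide +kernel)) h

theorem cardR : Nat.card phi.range = 4089470473293004800 := by rw [rep.range, rep.card_gen card.2.2, card.2.1]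

theorem base : IsBase phi.range [0, 1, 3511, 4212, 33] :=
  BaseGe.isBase (st0 (st1 (st2 (st3 (st4 (BaseGe.nil _)))))) rep.range.ge (by rw [cardR]) (by norm_num)


end Cfsg.Agent.Comp.Fi23
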