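import Cfsg.Agent.Comp.Fi23.Nets

set_option autoImplicit false
set_option maxRecDepth 100000

namespace Cfsg.Agent.Comp.Fi23
open Cfsg.Agent.Comp

def eqs_0L : List (List Nat × List Nat) :=
  [([3, 8, 9, 3, 8, 4, 3, 2, 1, 10], [6, 3, 6, 2, 1, 3, 4, 4, 3, 0, 1, 3, 6, 4, 8, 4, 4, 1, 8, 2, 4, 5, 4, 9, 5, 0, 4, 3, 4, 8, 9]),
   ([11], [4, 0, 6, 10, 2, 2])]

def eqs_1L : List (List Nat × List Nat) :=
  [([3, 0, 11, 2, 12], [5, 2, 11, 4, 5, 8, 0, 8]),
   ([8, 4, 5, 3, 11, 11, 4, 13], [0, 5, 3, 8, 4, 11, 2, 3, 8, 2, 0])]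

theorem eqs_0_0 : EqsP 31671 0 15 T eqs_0L :=
  eqsP_of ok (by norm_num) (by norm_num) (by norm_num) (show eqsP (nat_lit 31671) (nat_lit 15) (nat_lit 0) (nat_lit 15) T eqs_0L = true by decide +kernel)

theorem eqs_1_0 : EqsP 31671 0 15 T eqs_1L :=
  eqsP_of ok (by norm_num) (by norm_num) (by norm_num) (show eqsP (nat_lit 31671) (nat_lit 15) (nat_lit 0) (nat_lit 15) T eqs_1L = true by decide +kernel)

theorem eqs_0 : ∀ e ∈ eqs_0L, ev (sig T) e.1 = ev (sig T) e.2 := EqsP.eqs eqs_0_0 ok (by norm_num)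

theorem eqs_1 : ∀ e ∈ eqs_1L, ev (sig T) e.1 = ev (sig T) e.2 := EqsP.eqs eqs_1_0 ok (by norm_num)

theorem eqs : ∀ e ∈ E, ev (sig T) e.1 = ev (sig T) e.2 :=
  (show (eqs_0L ++ eqs_1L) = E by decide +kernel) ▸ (eqs_append eqs_0 eqs_1)

def lowW1 : List (List Nat) := [[0],
   [1],
   [2],
   [3],
   [4],
   [5],
   [6],
   [8],
   [9]]

def lowW2 : List (List Nat) := [[0],
   [2],
   [3],
   [4],
   [5],
   [6],
   [8],
   [10]]

def lowW3 : List (List Nat) := [[0],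
   [2],
   [3],
   [4],
   [5],
   [8],
   [11]]

def lowW4 : List (List Nat) := [[3],
   [5],
   [12],
   [13]]

theorem low_4 : 96 ≤ Nat.card (genW (sig T) lowW4) :=
  chain_step (W' := []) (b := 33) (n := 96) (m := 1) ok (le_of_subOK eqs (show subOK lowW4 [] E = true by decide +kernel)) (by decide +kernel)
    (le_ncard_of_orbGe ok (by norm_num) (show orbGe (nat_lit 31671) (nat_lit 15) T lowW4 [0, 1, 2, 3, 2, 3, 2, 3, 2, 2] (nat_lit 33) (nat_lit 96) = true by decide +kernel))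
    (chain_base ok [])

theorem low_3 : 1451520 ≤ Nat.card (genW (sig T) lowW3) :=
  chain_step (W' := lowW4) (b := 4212) (n := 15120) (m := 96) ok (le_of_subOK eqs (show subOK lowW3 lowW4 E = true by decide +kernel)) (by decide +kernel)
    (le_ncard_of_orbGe ok (by norm_num) (show orbGe (nat_lit 31671) (nat_lit 15) T lowW3 [0, 1, 3, 5, 6, 2, 6, 3, 0, 6, 1, 6, 2, 0, 6, 3, 6, 1, 2, 6, 0] (nat_lit 4212) (nat_lit 15120) = true by decide +kernel))
    low_4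

theorem low_2 : 36787322880 ≤ Nat.card (genW (sig T) lowW2) :=
  chain_step (W' := lowW3) (b := 3511) (n := 25344) (m := 1451520) ok (le_of_subOK eqs (show subOK lowW2 lowW3 E = true by decide +kernel)) (by decide +kernel)
    (le_ncard_of_orbGe ok (by norm_num) (show orbGe (nat_lit 31671) (nat_lit 15) T lowW2 [5, 4, 7, 2, 7, 0, 3, 5, 7, 4, 7, 0, 2, 7, 5, 3, 7, 4, 7, 0, 3, 7, 2, 7, 5, 0] (nat_lit 3511) (nat_lit 25344) = true by decide +kernel))
    low_3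

theorem low_1 : 129123503308800 ≤ Nat.card (genW (sig T) lowW1) :=
  chain_step (W' := lowW2) (b := 1) (n := 3510) (m := 36787322880) ok (le_of_subOK eqs (show subOK lowW1 lowW2 E = true by decide +kernel)) (by decide +kernel)
    (le_ncard_of_ivl (a := 1) ok (by norm_num) (show Nat.beq (grow T lowW1 [1, 8, 0, 2, 7, 3, 4, 7, 1, 2, 5, 3, 8, 6, 1, 7, 4, 2, 0, 3, 5, 8, 4, 7, 2, 1, 6, 3, 2, 0, 4, 1, 5, 7] (pt (nat_lit 1))) (ivl (nat_lit 1) (nat_lit 3510)) = true by decide +kernel))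
    low_2

theorem low : 4089470473293004800 ≤ Nat.card (genW (sig T) (letters 10)) :=
  chain_step (W' := lowW1) (b := 0) (n := 31671) (m := 129123503308800) ok (le_of_subOK eqs (show subOK (letters 10) lowW1 E = true by decide +kernel)) (by decide +kernel)
    (le_ncard_of_ivl (a := 0) ok (by norm_num) (show Nat.beq (grow T (letters 10) [7, 6, 5, 4, 3, 2, 8, 1, 9, 3, 0, 4, 2, 5, 8, 3, 6, 7, 4, 8, 1, 2, 9, 5, 3, 1, 6, 8, 4, 2, 0, 7, 3, 9, 5, 1, 6, 2, 8, 4, 1, 3, 0, 9, 2, 1, 4, 5, 0, 8, 3, 2, 6, 3, 1] (pt (nat_lit 0))) (ivl (nat_lit 0) (nat_lit 31671)) = true by decide +kernel))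
    low_1


end Cfsg.Agent.Comp.Fi23
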