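import Cfsg.Agent.Comp.Fi23.OutR

set_option autoImplicit false
set_option maxRecDepth 100000

namespace Cfsg.Agent.Comp.Fi23
open Cfsg.Agent.Comp

def cxg : List (List Nat) := [[14]]

def cxW : List (List Nat) := [[14]]

def cxV : List (List Nat) := [[14],
[15]]

def cx2D : Ds := []

def cx2P : Pats :=
  [([0, 2], [(0, [0, 0, 0, 0, 0, 0]), (1, [])], 1621),
   ([0, 2], [(0, [0]), (1, [])], 1621),
   ([1], [(0, [0, 0, 0, 0]), (0, [0, 0, 0]), (0, [0, 0]), (0, [])], 15447),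
   ([1], [(0, [0]), (0, [0, 0, 0, 0, 0, 0, 0, 0]), (0, [0, 0, 0, 0]), (0, [])], 13963),
   ([0, 2], [(0, [0, 0, 0, 0]), (1, [])], 1621),
   ([1], [(0, [0, 0, 0, 0, 0]), (0, [0, 0, 0, 0]), (0, [0, 0, 0, 0]), (0, [])], 17185),
   ([1], [(0, [0, 0, 0]), (0, [0, 0, 0]), (0, [0, 0, 0, 0, 0]), (0, [])], 27235),
   ([0, 2], [(0, [0, 0, 0]), (1, [])], 1621),
   ([0, 2], [(0, [0, 0, 0, 0, 0]), (1, [])], 1621),
   ([0, 2], [(0, [0, 0, 0, 0, 0, 0, 0, 0]), (1, [])], 1621),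
   ([1], [(0, [0, 0, 0]), (0, [0, 0, 0, 0, 0, 0]), (0, [0]), (0, [])], 27232),
   ([1, 2], [(0, [0, 0]), (0, [0, 0, 0, 0, 0]), (1, [0, 0, 0]), (0, [0, 0, 0, 0]), (1, [0]), (0, [])], 23703),
   ([1], [(0, [0, 0, 0, 0, 0, 0, 0]), (0, [0, 0, 0]), (0, [0, 0, 0]), (0, [])], 27246),
   ([1], [(0, [0, 0, 0]), (0, [0, 0, 0, 0]), (0, [0]), (0, [])], 5834),
   ([0, 2], [(0, [0, 0, 0, 0, 0, 0, 0]), (1, [])], 1621),
   ([0, 2], [(0, [0, 0]), (1, [])], 1621),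
   ([1], [(0, [0]), (0, [0, 0, 0, 0, 0, 0, 0, 0]), (0, [0, 0]), (0, [])], 17355)]

def cx2L0 : List (Nat × List Nat × Nat) :=
  [(0, [], 0),
   (126, [18, 10], 1),
   (296, [15, 10], 0),
   (565, [18, 12], 1),
   (1493, [15, 12], 2),
   (2175, [15, 13], 3),
   (2653, [18, 13], 4),
   (2675, [15, 3], 5),
   (2676, [18, 3], 6),
   (2679, [15, 5], 7),
   (3152, [18, 1], 6),
   (6371, [7, 16], 2),
   (13029, [18, 7], 5),
   (13428, [7, 18], 3),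
   (45, [15, 3, 16], 1),
   (75, [18, 10, 3], 1),
   (203, [18, 10, 9], 2),
   (396, [18, 12, 5], 0),
   (397, [18, 5, 12], 2),
   (407, [18, 12, 2], 8),
   (431, [15, 10, 9], 1),
   (484, [15, 15, 12], 0),
   (521, [15, 10, 11], 4),
   (547, [15, 15, 13], 3),
   (703, [18, 13, 16], 9),
   (775, [18, 12, 9], 10),
   (778, [18, 12, 1], 2),
   (781, [18, 12, 4], 3),
   (782, [18, 12, 6], 0),
   (783, [18, 12, 8], 0),
   (836, [18, 1, 11], 6),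
   (1059, [15, 5, 11], 4),
   (1071, [15, 1, 10], 11),
   (1209, [15, 12, 5], 9),
   (1214, [15, 12, 16], 2),
   (1220, [15, 12, 9], 2),
   (1374, [15, 1, 12], 9),
   (1404, [15, 13, 12], 4),
   (1412, [18, 10, 13], 2),
   (1494, [15, 10, 13], 12),
   (1523, [18, 1, 10], 2),
   (1533, [15, 15, 9], 7),
   (1625, [15, 5, 10], 4),
   (1695, [18, 3, 13], 3)]

def cx2L1 : List (Nat × List Nat × Nat) :=
  [(1795, [15, 12, 8], 13),
   (1796, [15, 12, 1], 3),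
   (1801, [15, 12, 6], 1),
   (1869, [15, 12, 11], 6),
   (1887, [15, 13, 9], 5),
   (1889, [15, 13, 6], 1),
   (1890, [15, 13, 4], 9),
   (1921, [7, 18, 7], 0),
   (1976, [18, 1, 12], 3),
   (1980, [15, 5, 13], 2),
   (1982, [18, 13, 12], 5),
   (2319, [18, 12, 11], 4),
   (2366, [18, 13, 6], 13),
   (2393, [15, 3, 2], 2),
   (2396, [15, 3, 5], 8),
   (2434, [18, 14, 18], 4),
   (2609, [15, 13, 11], 8),
   (2633, [15, 13, 10], 5),
   (2700, [18, 13, 10], 4),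
   (2731, [18, 13, 5], 4),
   (2755, [18, 5, 13], 3),
   (2818, [15, 12, 12], 2),
   (2847, [18, 1, 13], 6),
   (2853, [18, 12, 12], 8),
   (2918, [18, 3, 5], 3),
   (2930, [15, 1, 3], 1),
   (2931, [15, 3, 4], 6),
   (2935, [15, 1, 5], 2),
   (2939, [18, 1, 5], 4),
   (3163, [15, 1, 2], 4),
   (3426, [15, 1, 13], 1),
   (4369, [15, 14, 13], 4),
   (4406, [7, 16, 13], 2),
   (6603, [7, 6, 13], 9),
   (7092, [18, 14, 11], 0),
   (10705, [7, 18, 10], 0),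
   (11772, [18, 14, 4], 3),
   (11860, [7, 10, 18], 0),
   (11981, [15, 14, 4], 2),
   (12341, [7, 18, 5], 0),
   (14680, [18, 3, 7], 5),
   (15031, [18, 1, 7], 14)]

def cx2L2 : List (Nat × List Nat × Nat) :=
  [(15336, [18, 14, 2], 10),
   (15506, [18, 14, 3], 0),
   (15755, [15, 14, 2], 6),
   (17838, [15, 5, 7], 4),
   (19526, [18, 14, 13], 12),
   (25137, [7, 15, 5], 4),
   (26473, [7, 15, 0], 15),
   (29332, [18, 1, 18], 14),
   (29747, [18, 13, 18], 10),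
   (30860, [15, 14, 16], 7),
   (106, [15, 3, 16, 13], 3),
   (227, [18, 5, 12, 12], 4),
   (280, [15, 5, 11, 16], 3),
   (329, [15, 14, 7, 13], 3),
   (354, [15, 12, 13, 8], 1),
   (493, [15, 12, 5, 11], 4),
   (617, [15, 10, 9, 12], 2),
   (669, [15, 10, 14, 18], 0),
   (679, [15, 15, 12, 2], 2),
   (690, [18, 13, 6, 11], 3),
   (831, [15, 5, 4, 11], 0),
   (883, [18, 3, 5, 18], 0),
   (946, [15, 12, 2, 3], 2),
   (1596, [15, 12, 11, 9], 5),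
   (1611, [15, 12, 4, 11], 8),
   (1629, [18, 10, 12, 4], 1),
   (1810, [18, 1, 12, 0], 3),
   (2015, [18, 12, 9, 13], 3),
   (2351, [7, 16, 14, 5], 10),
   (2498, [18, 13, 2, 5], 16),
   (2537, [15, 1, 12, 10], 5),
   (2554, [18, 1, 3, 13], 5),
   (2656, [18, 13, 6, 9], 3),
   (2718, [18, 14, 5, 7], 8),
   (2891, [15, 13, 4, 10], 1),
   (3101, [18, 12, 12, 4], 1),
   (4103, [18, 7, 11, 9], 9)]

def cx2L3 : List (Nat × List Nat × Nat) :=
  [(10307, [18, 13, 14, 10], 3),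
   (13517, [18, 14, 5, 6], 8),
   (13830, [15, 14, 3, 4], 5),
   (17513, [15, 14, 2, 3], 2),
   (23559, [15, 14, 16, 13], 8)]

def cx2B : List Nat := [0, 126, 296, 565, 1493, 2175, 2653, 2675, 2676, 2679, 3152, 6371, 13029, 13428, 45, 75, 203, 396, 397, 407, 431, 484, 521, 547, 703, 775, 778, 781, 782, 783, 836, 1059, 1071, 1209, 1214, 1220, 1374, 1404, 1412, 1494, 1523, 1533, 1625, 1695, 1795, 1796, 1801, 1869, 1887, 1889, 1890, 1921, 1976, 1980, 1982, 2319, 2366, 2393, 2396, 2434, 2609, 2633, 2700, 2731, 2755, 2818, 2847, 2853, 2918, 2930, 2931, 2935, 2939, 3163, 3426, 4369, 4406, 6603, 7092, 10705, 11772, 11860, 11981, 12341, 14680, 15031, 15336, 15506, 15755, 17838, 19526, 25137, 26473, 29332, 29747, 30860, 106, 227, 280, 329, 354, 493, 617, 669, 679, 690, 831, 883, 946, 1596, 1611, 1629, 1810, 2015, 2351, 2498, 2537, 2554, 2656, 2718, 2891, 3101, 4103, 10307, 13517, 13830,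 17513, 23559, 2399]

def cx4D : Ds := []

def cx4P : Pats :=
  [([0, 1], [(0, [0, 0, 0, 0, 0]), (1, [])], 4212)]

def cx4L0 : List (Nat × List Nat × Nat) :=
  [(7065, [15, 14, 1, 16], 0),
   (4218, [7, 6, 13, 12, 1], 0),
   (27962, [15, 7, 15, 1, 9], 0)]

def cx4B : List Nat := [7065, 4218, 27962]

def cyg : List (List Nat) := [[15]]

def cyW : List (List Nat) := [[15],
[17]]

def cyV : List (List Nat) := [[15],
[17],
[16],
[18]]

def cy5D : Ds := [(1821, 1821, [15, 15], [15, 15], [2]), (2932, 2932, [15], [15], [2])]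

def cy5P : Pats :=
  [([1], [(0, []), (1, []), (2, [0]), (0, [0, 0, 0, 0, 0, 0, 0, 0, 0, 0, 0, 0]), (0, [])], 14522),
   ([0, 2], [(0, [0, 0, 0]), (1, [])], 192),
   ([0, 2], [(0, [0]), (1, [])], 192),
   ([1, 2], [(0, []), (2, [0, 0, 0]), (1, [0]), (0, [0, 0, 0]), (0, [0, 0, 0, 0, 0, 0, 0]), (0, [])], 1657)]

def cy5L0 : List (Nat × List Nat × Nat) :=
  [(1523, [18, 1, 10], 0),
   (1915, [15, 10, 12, 15], 1),
   (231, [15, 1, 7, 18], 1),
   (2431, [18, 12, 13, 10], 0),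
   (1105, [15, 1, 12, 1], 2),
   (2199, [15, 3, 4, 13], 0),
   (2458, [18, 1, 7, 18], 0),
   (266, [18, 3, 13, 13], 1),
   (171, [15, 12, 6, 13], 3),
   (2553, [18, 12, 1, 12], 2),
   (1247, [15, 1, 12, 5], 0),
   (2065, [7, 18, 11, 18], 0),
   (1093, [7, 18, 11, 6, 18], 0),
   (638, [15, 12, 5, 9, 11], 1),
   (573, [15, 3, 12, 10, 9], 0)]

def cy5B : List Nat := [1523, 1915, 231, 2431, 1105, 2199, 2458, 266, 171, 2553, 1247, 2065, 1093, 638, 573]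

def cy6D : Ds := [(192, 192, [7, 16, 14, 16, 14], [7, 16, 14, 16, 14], [1]), (2932, 2932, [15], [15], [2])]

def cy6P : Pats :=
  [([0, 2], [(0, [0]), (1, [])], 1),
   ([1], [(0, []), (2, [0, 0]), (0, [0, 0, 0]), (1, [0, 0, 0, 0]), (1, [])], 5062)]

def cy6L0 : List (Nat × List Nat × Nat) :=
  [(2726, [15, 1, 5, 18], 0),
   (3428, [15, 10, 14, 15], 1)]

def cy6B : List Nat := [2726, 3428]

def Rs : List (List Nat) :=
  [[0, 1, 1, 1, 1, 2, 2, 0, 1, 1, 1, 1, 2, 2, 0, 1, 1, 1, 1, 2, 2, 0, 1, 1, 1, 1, 2, 2],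
   [0, 2, 0, 2, 0, 2, 0, 2, 0, 2, 0, 2, 0, 2, 0, 2, 0, 2, 0, 2],
   [0, 1, 2, 0, 1, 2, 0, 1, 2, 0, 1, 2, 0, 1, 2, 0, 1, 2, 0, 1, 2, 0, 1, 2, 0, 1, 2, 0, 1, 2, 0, 1, 2, 0, 1, 2, 0, 1, 2, 0, 1, 2]]

def GE : List (List Nat × List Nat) :=
  [([14, 14, 15, 15, 16, 14, 16, 14, 16, 15, 15, 14, 15, 0], [16, 14, 15, 16, 14, 16, 14, 15, 16, 14, 16, 14, 15, 16, 14, 16, 14, 15, 16, 14, 16, 14, 15, 16, 14, 16, 14, 15, 16, 14, 16, 14, 15, 16, 14, 16, 14, 15, 16, 14, 16, 14, 15, 16, 14, 16, 14, 15, 16, 14, 16, 14, 15, 16, 14, 16, 14, 15, 16, 14, 16, 14, 15, 16, 14, 14, 14, 15, 15, 16, 14, 16, 14, 16, 15, 15, 14, 15]),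
   ([14, 0, 15, 0, 15, 0, 16, 1], [0, 14, 0, 15, 0, 15, 0, 16]),
   ([14, 1, 2], [0, 14, 1]),
   ([15, 15, 2, 0, 14, 3], [1, 15, 15, 2, 0, 14]),
   ([14, 3, 15, 15, 4], [3, 14, 3, 15, 15]),
   ([4, 14, 5], [3, 4, 14]),
   ([15, 15, 14, 6], [3, 15, 15, 14]),
   ([14, 14, 7], [5, 14, 14]),
   ([14, 14, 2, 14, 8], [7, 14, 14, 2, 14]),
   ([15, 1, 0, 7, 15, 4, 15, 9], [8, 15, 1, 0, 7, 15, 4, 15])]

def ob0 : List ((Nat × List Nat) × Nat) :=
  [((1, [15]), 0),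
   ((1, [15, 17]), 0),
   ((1, [15, 15, 15]), 0),
   ((1, [15, 15, 15, 17]), 0),
   ((1, [15, 15, 15, 15, 15]), 0),
   ((1, [15, 15, 15, 15, 15, 17]), 0),
   ((1, [15, 15, 15, 15, 15, 15]), 0),
   ((1, [15, 15, 15, 15, 15, 15, 17]), 0),
   ((1, [15, 15, 15, 15, 15, 15, 15]), 0),
   ((1, [15, 15, 15, 15, 15, 15, 15, 17]), 0)]

def ob1 : List ((Nat × List Nat) × Nat) :=
  [((1, [15, 15, 15, 15, 15, 15, 15, 15, 15]), 0),
   ((1, [15, 15, 15, 15, 15, 15, 15, 15, 15, 17]), 0),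
   ((1, [15, 15, 15, 15, 15, 15, 15, 15, 15, 15, 15]), 0),
   ((1, [15, 15, 15, 15, 15, 15, 15, 15, 15, 15, 15, 17]), 0),
   ((1, [15, 15, 15, 15, 15, 15, 15, 15, 15, 15, 15, 15, 15]), 0)]

def ob2 : List ((Nat × List Nat) × Nat) :=
  [((1, [15, 15, 15, 15, 15, 15, 15, 15, 15, 15, 15, 15, 15, 17]), 0),
   ((1, [15, 15, 15, 15, 15, 15, 15, 15, 15, 15, 15, 15, 15, 15]), 0),
   ((1, [15, 15, 15, 15, 15, 15, 15, 15, 15, 15, 15, 15, 15, 15, 17]), 0),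
   ((1, [15, 15, 15, 15, 15, 15, 15, 15, 15, 15, 15, 15, 15, 15, 15]), 0)]

def ob3 : List ((Nat × List Nat) × Nat) :=
  [((1, [15, 15, 15, 15, 15, 15, 15, 15, 15, 15, 15, 15, 15, 15, 15, 17]), 0),
   ((1, [17]), 1),
   ((1, [15, 15]), 1),
   ((1, [15, 15, 17]), 1),
   ((1, [15, 15, 15, 15]), 1),
   ((1, [15, 15, 15, 15, 17]), 1),
   ((1, [15, 15, 15, 15, 15, 15, 15, 15]), 1),
   ((1, [15, 15, 15, 15, 15, 15, 15, 15, 15, 15]), 1)]

def ob4 : List ((Nat × List Nat) × Nat) :=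
  [((1, [15, 15, 15, 15, 15, 15, 15, 15, 15, 15, 17]), 1),
   ((1, [15, 15, 15, 15, 15, 15, 15, 15, 15, 15, 15, 15]), 1),
   ((1, [15, 15, 15, 15, 15, 15, 15, 15, 15, 15, 15, 15, 17]), 1),
   ((1, [15, 15, 15, 15, 15, 15, 15, 15, 17]), 2)]

theorem cxE : ∀ e ∈ (cenE cxg cxW [([14], [[0]]), ([15], [[0, 0, 0, 0, 0, 0]])]), ev s2 e.1 = ev s2 e.2 :=
  rep2.eqB inj base (by decide +kernel)

theorem cx1T : stepB (nat_lit 19) (nat_lit 31671) (nat_lit 15) T2 Is cxg cxW cxV [(1621, 2399)] [(1621, 2399, [15, 3, 10, 11, 12], [15, 5, 6], [1])] [] [(0, [0, 0, 0, 0, 0, 0, 0, 0, 0, 0]), (0, [0, 0]), (0, [0, 0, 0, 0]), (0, [])] 19222 [] [] [] [] [] [] = true := by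
  decide +kernel

theorem cx2S : srcB (nat_lit 19) (nat_lit 31671) (nat_lit 15) T2 Is cxg [] cx2D [] 1621 [15, 3, 10, 11, 12] cx2P = true := by
  decide +kernel

theorem cx2L0_ok : leafB (nat_lit 19) (nat_lit 31671) (nat_lit 15) T2 Is cxg cx2D [] cx2P cx2L0 = true := by
  decide +kernel

theorem cx2L1_ok : leafB (nat_lit 19) (nat_lit 31671) (nat_lit 15) T2 Is cxg cx2D [] cx2P cx2L1 = true := by
  decide +kernel

theorem cx2L2_ok : leafB (nat_lit 19) (nat_lit 31671) (nat_lit 15) T2 Is cxg cx2D [] cx2P cx2L2 = true := by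
  decide +kernel

theorem cx2L3_ok : leafB (nat_lit 19) (nat_lit 31671) (nat_lit 15) T2 Is cxg cx2D [] cx2P cx2L3 = true := by
  decide +kernel

theorem cx2T : stepB (nat_lit 19) (nat_lit 31671) (nat_lit 15) T2 Is cxg cxW cxV [] [] [] [] 1621 [1621] cx2B [[0]] [[1]] [0, 0, 0, 0, 0, 0, 0, 0, 0, 0, 0, 0, 0, 0, 0, 0] [0, 1, 0, 1, 0, 1, 0, 1, 1, 1, 1, 1, 1, 1, 1, 1, 1, 1, 1, 1, 1, 0] = true := by
  decide +kernel

theorem cx3T : stepB (nat_lit 19) (nat_lit 31671) (nat_lit 15) T2 Is cxg cxW cxV [(1621, 1621)] [(1621, 1621, [15, 3, 10, 11, 12], [15, 3, 10, 11, 12], [1, 2])] [] [(1, [0, 0, 0]), (0, [0, 0, 0]), (0, [0, 0, 0]), (0, [0, 0, 0]), (0, [0, 0]), (0, [])] 30054 [30054] [] [] [] [] [] = true := by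
  decide +kernel

theorem cx4S : srcB (nat_lit 19) (nat_lit 31671) (nat_lit 15) T2 Is cxg [(30054, 30054), (1621, 1621)] cx4D [] 4212 [7, 15, 7, 18, 14, 18] cx4P = true := by
  decide +kernel

theorem cx4L0_ok : leafB (nat_lit 19) (nat_lit 31671) (nat_lit 15) T2 Is cxg cx4D [] cx4P cx4L0 = true := by
  decide +kernel

theorem cx4T : stepB (nat_lit 19) (nat_lit 31671) (nat_lit 15) T2 Is cxg cxW cxV [(30054, 30054), (1621, 1621)] [(30054, 30054, [15, 12, 13, 15, 11], [15, 12, 13, 15, 11], [1, 2]), (1621, 1621, [15, 3, 10, 11, 12], [15, 3, 10, 11, 12], [1, 2])] [] [(1, []), (3, [0]), (1, []), (3, [0]), (1, []), (3, [0]), (0, [0]), (1, [0]), (1, []), (3, [0]), (1, []), (3, [0]), (2, [0]), (1, []), (3, [0]), (2, []), (1, [0]), (1, []), (3, [0]), (3, [0]), (1, [0, 0]), (1, [])] 4212 [4212] cx4B [] [] [] [] = true := by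
  decide +kernel

theorem cx5T : stepB (nat_lit 19) (nat_lit 31671) (nat_lit 15) T2 Is cxg cxW cxV [(4212, 4212), (30054, 30054), (1621, 1621)] [(4212, 4212, [7, 15, 7, 18, 14, 18], [7, 15, 7, 18, 14, 18], [1, 2]), (1621, 1621, [15, 3, 10, 11, 12], [15, 3, 10, 11, 12], [1, 2])] [] [(2, [0, 0]), (1, [0]), (0, []), (3, [0]), (0, [0, 0, 0, 0, 0]), (0, [0, 0, 0, 0, 0, 0]), (0, [])] 0 [0] [] [] [] [] [] = true := by
  decide +kernel

theorem cx6T : stepB (nat_lit 19) (nat_lit 31671) (nat_lit 15) T2 Is cxg cxW cxV [(0, 0), (4212, 4212), (30054, 30054), (1621, 1621)] [(0, 0, [], [], [1]), (1621, 1621, [15, 3, 10, 11, 12], [15, 3, 10, 11, 12], [1])] [] [(0, []), (1, [0, 0, 0, 0]), (0, [0, 0]), (0, [0, 0]), (0, [])] 1 [1] [] [] [] [] [] = true := by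
  decide +kernel

theorem cx7T : stepB (nat_lit 19) (nat_lit 31671) (nat_lit 15) T2 Is cxg cxW cxV [(1, 1), (0, 0), (4212, 4212), (30054, 30054), (1621, 1621)] [(1, 1, [15, 1, 2, 16, 1], [15, 1, 2, 16, 1], [2]), (0, 0, [], [], [0])] [] [(0, [0]), (1, [])] 3511 [3511] [] [] [] [] [] = true := by
  decide +kernel

theorem cx8T : stepB (nat_lit 19) (nat_lit 31671) (nat_lit 15) T2 Is cxg cxW cxV [(3511, 3511), (1, 1), (0, 0), (4212, 4212), (30054, 30054), (1621, 1621)] [(3511, 3511, [7], [7], [1]), (1, 1, [15, 1, 2, 16, 1], [15, 1, 2, 16, 1], [1]), (0, 0, [], [], [1]), (4212, 4212, [7, 15, 7, 18, 14, 18], [7, 15, 7, 18, 14, 18], [1])] [] [(2, [0, 0]), (1, [0]), (0, []), (1, [0]), (0, []), (3, [])] 33 [33] [] [] [] [] [] = true := by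
  decide +kernel

theorem cyE : ∀ e ∈ (cenE cyg cyW [([15], [[0]]), ([17], [[0]]), ([16], [[0]]), ([18], [[0, 0, 0]])]), ev s2 e.1 = ev s2 e.2 :=
  rep2.eqB inj base (by decide +kernel)

theorem cy1T : stepB (nat_lit 19) (nat_lit 31671) (nat_lit 15) T2 Is cyg cyW cyV [] [] [[0, 0],
[0, 0, 0, 0]] [(3, []), (0, [])] 0 [0] [] [[0],
[1]] [[3, 0],
[3, 3],
[1]] [0, 0, 0] [] = true := by
  decide +kernel

theorem cy2T : stepB (nat_lit 19) (nat_lit 31671) (nat_lit 15) T2 Is cyg cyW cyV [(0, 0)] [(0, 0, [], [], [0, 1])] [] [(1, [0, 0, 0]), (0, [])] 2933 [2933] [] [[0, 0, 0, 0],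
[1]] [[3, 3],
[1],
[0, 0, 0, 0]] [] [] = true := by
  decide +kernel

theorem cy3T : stepB (nat_lit 19) (nat_lit 31671) (nat_lit 15) T2 Is cyg cyW cyV [(2933, 2933), (0, 0)] [(2933, 2933, [18], [18], [1]), (0, 0, [], [], [0])] [] [(0, [0]), (1, [])] 2932 [2932] [] [[0, 0, 0, 0],
[1]] [[3, 3],
[1],
[0, 0, 0, 0]] [] [] = true := by
  decide +kernel

theorem cy4T : stepB (nat_lit 19) (nat_lit 31671) (nat_lit 15) T2 Is cyg cyW cyV [(2932, 2932), (2933, 2933), (0, 0)] [(2932, 2932, [15], [15], [0, 1])] [] [(1, [0]), (0, [])] 1821 [1821] [] [[0, 0, 0, 0],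
[1]] [[3, 3],
[1],
[0, 0, 0, 0]] [] [] = true := by
  decide +kernel

theorem cy5S : srcB (nat_lit 19) (nat_lit 31671) (nat_lit 15) T2 Is cyg [(1821, 1821), (2932, 2932), (2933, 2933), (0, 0)] cy5D [] 192 [7, 16, 14, 16, 14] cy5P = true := by
  decide +kernel

theorem cy5L0_ok : leafB (nat_lit 19) (nat_lit 31671) (nat_lit 15) T2 Is cyg cy5D [] cy5P cy5L0 = true := by
  decide +kernel

theorem cy5T : stepB (nat_lit 19) (nat_lit 31671) (nat_lit 15) T2 Is cyg cyW cyV [(1821, 1821), (2932, 2932), (2933, 2933), (0, 0)] [(1821, 1821, [15, 15], [15, 15], [1]), (2932, 2932, [15], [15], [1]), (2933, 2933, [18], [18], [2]), (0, 0, [], [], [1])] [] [(0, []), (1, []), (3, []), (2, [])] 192 [192] cy5B [[0, 0, 0, 0],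
[1]] [[0, 3, 0, 3]] [1, 0, 0, 0] [1, 0, 0, 0] = true := by
  decide +kernel

theorem cy6S : srcB (nat_lit 19) (nat_lit 31671) (nat_lit 15) T2 Is cyg [(192, 192), (1821, 1821), (2932, 2932), (2933, 2933), (0, 0)] cy6D [] 1 [15, 1, 2, 16, 1] cy6P = true := by
  decide +kernel

theorem cy6L0_ok : leafB (nat_lit 19) (nat_lit 31671) (nat_lit 15) T2 Is cyg cy6D [] cy6P cy6L0 = true := by
  decide +kernel

theorem cy6T : stepB (nat_lit 19) (nat_lit 31671) (nat_lit 15) T2 Is cyg cyW cyV [(192, 192), (1821, 1821), (2932, 2932), (2933, 2933), (0, 0)] [(192, 192, [7, 16, 14, 16, 14], [7, 16, 14, 16, 14], [1, 2]), (1821, 1821, [15, 15], [15, 15], [1]), (2932, 2932, [15], [15], [1]), (2933, 2933, [18], [18], [1]), (0, 0, [], [], [1])] [] [(2, []), (3, []), (4, []), (5, []), (1, [0]), (1, [0]), (0, [0, 0]), (1, [0]), (1, [])] 1 [1] cy6B [] [[0, 3, 0, 3]] [] [] = true := by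
  decide +kernel

theorem cy7T : stepB (nat_lit 19) (nat_lit 31671) (nat_lit 15) T2 Is cyg cyW cyV [(1, 1), (192, 192), (1821, 1821), (2932, 2932), (2933, 2933), (0, 0)] [(1, 1, [15, 1, 2, 16, 1], [15, 1, 2, 16, 1], [1]), (192, 192, [7, 16, 14, 16, 14], [7, 16, 14, 16, 14], [1]), (1821, 1821, [15, 15], [15, 15], [1])] [] [(1, []), (2, [0, 0]), (0, []), (1, [0, 0]), (1, [0, 0, 0, 0, 0]), (1, [])] 3511 [3511] [] [] [] [] [] = true := by
  decide +kernel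

theorem cy8T : stepB (nat_lit 19) (nat_lit 31671) (nat_lit 15) T2 Is cyg cyW cyV [(3511, 3511), (1, 1), (192, 192), (1821, 1821), (2932, 2932), (2933, 2933), (0, 0)] [(3511, 3511, [7], [7], [1, 2]), (1, 1, [15, 1, 2, 16, 1], [15, 1, 2, 16, 1], [2]), (192, 192, [7, 16, 14, 16, 14], [7, 16, 14, 16, 14], [1, 2]), (2932, 2932, [15], [15], [2]), (0, 0, [], [], [2])] [] [(3, []), (1, []), (5, []), (6, [0, 0, 0, 0, 0]), (4, [0]), (2, [0, 0, 0, 0, 0, 0]), (0, []), (3, [0]), (4, [0]), (0, [])] 4212 [4212] [] [] [] [] [] = true := by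
  decide +kernel

theorem cy9T : stepB (nat_lit 19) (nat_lit 31671) (nat_lit 15) T2 Is cyg cyW cyV [(4212, 4212), (3511, 3511), (1, 1), (192, 192), (1821, 1821), (2932, 2932), (2933, 2933), (0, 0)] [(4212, 4212, [7, 15, 7, 18, 14, 18], [7, 15, 7, 18, 14, 18], [1]), (3511, 3511, [7], [7], [1]), (1, 1, [15, 1, 2, 16, 1], [15, 1, 2, 16, 1], [1]), (0, 0, [], [], [1])] [] [(3, [0]), (0, [0, 0, 0]), (1, []), (2, [0, 0]), (0, [])] 33 [33] [] [] [] [] [] = true := by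
  decide +kernel

theorem clE : ∀ e ∈ [([15] ++ [17], [17] ++ [15]), (wpow [15] 16, []), (wpow [17] 2, wpow [15] 0)], ev s2 e.1 = ev s2 e.2 :=
  rep2.eqB inj base (by decide +kernel)

theorem oE : ∀ e ∈ (outE 14 15 16 17 3 1 1 Rs), ev s2 e.1 = ev s2 e.2 :=
  rep2.eqB inj base (by decide +kernel)

def gE_0L : List (List Nat × List Nat) :=
  [([14, 14, 15, 15, 16, 14, 16, 14, 16, 15, 15, 14, 15, 0], [16, 14, 15, 16, 14, 16, 14, 15, 16, 14, 16, 14, 15, 16, 14, 16, 14, 15, 16, 14, 16, 14, 15, 16, 14, 16, 14, 15, 16, 14, 16, 14, 15, 16, 14, 16, 14, 15, 16, 14, 16, 14, 15, 16, 14, 16, 14, 15, 16, 14, 16, 14, 15, 16, 14, 16, 14, 15, 16, 14, 16, 14, 15, 16, 14, 14, 14, 15, 15, 16, 14, 16, 14, 16, 15, 15, 14, 15]),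
   ([14, 0, 15, 0, 15, 0, 16, 1], [0, 14, 0, 15, 0, 15, 0, 16]),
   ([14, 1, 2], [0, 14, 1]),
   ([15, 15, 2, 0, 14, 3], [1, 15, 15, 2, 0, 14])]

theorem gE_0 : ∀ e ∈ gE_0L, ev s2 e.1 = ev s2 e.2 :=
  rep2.eqB inj base (by decide +kernel)

def gE_1L : List (List Nat × List Nat) :=
  [([14, 3, 15, 15, 4], [3, 14, 3, 15, 15]),
   ([4, 14, 5], [3, 4, 14]),
   ([15, 15, 14, 6], [3, 15, 15, 14]),
   ([14, 14, 7], [5, 14, 14]),
   ([14, 14, 2, 14, 8], [7, 14, 14, 2, 14]),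
   ([15, 1, 0, 7, 15, 4, 15, 9], [8, 15, 1, 0, 7, 15, 4, 15])]

theorem gE_1 : ∀ e ∈ gE_1L, ev s2 e.1 = ev s2 e.2 :=
  rep2.eqB inj base (by decide +kernel)

theorem ob0_ok : obsB (nat_lit 19) (nat_lit 31671) T2 (ivl 0 15835) 14 15 16 Rs ob0 = true := by
  decide +kernel

theorem ob1_ok : obsB (nat_lit 19) (nat_lit 31671) T2 (ivl 0 15835) 14 15 16 Rs ob1 = true := by
  decide +kernel

theorem ob2_ok : obsB (nat_lit 19) (nat_lit 31671) T2 (ivl 0 15835) 14 15 16 Rs ob2 = true := by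
  decide +kernel

theorem ob3_ok : obsB (nat_lit 19) (nat_lit 31671) T2 (ivl 0 15835) 14 15 16 Rs ob3 = true := by
  decide +kernel

theorem ob4_ok : obsB (nat_lit 19) (nat_lit 31671) T2 (ivl 0 15835) 14 15 16 Rs ob4 = true := by
  decide +kernel

theorem cxX : Ctx s2 (nat_lit 19) (nat_lit 31671) (nat_lit 15) T2 phi Is cxg cxW cxV :=
  Ctx.of (V := [([14], [[0]]), ([15], [[0, 0, 0, 0, 0, 0]])]) rep2 orbs (by norm_num) (by decide +kernel) cxE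

theorem cx2N : No s2 phi cxg [] 1621 cx2B :=
  No.of_eq (No.append (No.leaf cxX cx2S cx2L0_ok) (No.append (No.leaf cxX cx2S cx2L1_ok) (No.append (No.leaf cxX cx2S cx2L2_ok) (No.append (No.leaf cxX cx2S cx2L3_ok) (No.step cxX cx1T (No.nil _ _ _ _ _)))))) (by decide +kernel)

theorem cx4N : No s2 phi cxg [(30054, 30054), (1621, 1621)] 4212 cx4B :=
  No.of_eq (No.leaf cxX cx4S cx4L0_ok) (by decide +kernel)

theorem cxC6 : Cen s2 phi cxg [(3511, 3511), (1, 1), (0, 0), (4212, 4212), (30054, 30054), (1621, 1621)] (genW s2 cxW) :=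
  Cen.step cxX cx8T (No.nil _ _ _ _ _) (Cen.base inj base (by decide +kernel) _)

theorem cxC5 : Cen s2 phi cxg [(1, 1), (0, 0), (4212, 4212), (30054, 30054), (1621, 1621)] (genW s2 cxW) :=
  Cen.step cxX cx7T (No.nil _ _ _ _ _) cxC6

theorem cxC4 : Cen s2 phi cxg [(0, 0), (4212, 4212), (30054, 30054), (1621, 1621)] (genW s2 cxW) :=
  Cen.step cxX cx6T (No.nil _ _ _ _ _) cxC5

theorem cxC3 : Cen s2 phi cxg [(4212, 4212), (30054, 30054), (1621, 1621)] (genW s2 cxW) :=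
  Cen.step cxX cx5T (No.nil _ _ _ _ _) cxC4

theorem cxC2 : Cen s2 phi cxg [(30054, 30054), (1621, 1621)] (genW s2 cxW) :=
  Cen.step cxX cx4T cx4N cxC3

theorem cxC1 : Cen s2 phi cxg [(1621, 1621)] (genW s2 cxW) :=
  Cen.step cxX cx3T (No.nil _ _ _ _ _) cxC2

theorem cxC : Cen s2 phi cxg [] (genW s2 cxW) :=
  Cen.step cxX cx2T cx2N cxC1

theorem cyX : Ctx s2 (nat_lit 19) (nat_lit 31671) (nat_lit 15) T2 phi Is cyg cyW cyV :=
  Ctx.of (V := [([15], [[0]]), ([17], [[0]]), ([16], [[0]]), ([18], [[0, 0, 0]])]) rep2 orbs (by norm_num) (by decide +kernel) cyE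

theorem cy5N : No s2 phi cyg [(1821, 1821), (2932, 2932), (2933, 2933), (0, 0)] 192 cy5B :=
  No.of_eq (No.leaf cyX cy5S cy5L0_ok) (by decide +kernel)

theorem cy6N : No s2 phi cyg [(192, 192), (1821, 1821), (2932, 2932), (2933, 2933), (0, 0)] 1 cy6B :=
  No.of_eq (No.leaf cyX cy6S cy6L0_ok) (by decide +kernel)

theorem cyC8 : Cen s2 phi cyg [(4212, 4212), (3511, 3511), (1, 1), (192, 192), (1821, 1821), (2932, 2932), (2933, 2933), (0, 0)] (genW s2 cyW) :=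
  Cen.step cyX cy9T (No.nil _ _ _ _ _) (Cen.base inj base (by decide +kernel) _)

theorem cyC7 : Cen s2 phi cyg [(3511, 3511), (1, 1), (192, 192), (1821, 1821), (2932, 2932), (2933, 2933), (0, 0)] (genW s2 cyW) :=
  Cen.step cyX cy8T (No.nil _ _ _ _ _) cyC8

theorem cyC6 : Cen s2 phi cyg [(1, 1), (192, 192), (1821, 1821), (2932, 2932), (2933, 2933), (0, 0)] (genW s2 cyW) :=
  Cen.step cyX cy7T (No.nil _ _ _ _ _) cyC7

theorem cyC5 : Cen s2 phi cyg [(192, 192), (1821, 1821), (2932, 2932), (2933, 2933), (0, 0)] (genW s2 cyW) :=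
  Cen.step cyX cy6T cy6N cyC6

theorem cyC4 : Cen s2 phi cyg [(1821, 1821), (2932, 2932), (2933, 2933), (0, 0)] (genW s2 cyW) :=
  Cen.step cyX cy5T cy5N cyC5

theorem cyC3 : Cen s2 phi cyg [(2932, 2932), (2933, 2933), (0, 0)] (genW s2 cyW) :=
  Cen.step cyX cy4T (No.nil _ _ _ _ _) cyC4

theorem cyC2 : Cen s2 phi cyg [(2933, 2933), (0, 0)] (genW s2 cyW) :=
  Cen.step cyX cy3T (No.nil _ _ _ _ _) cyC3

theorem cyC1 : Cen s2 phi cyg [(0, 0)] (genW s2 cyW) :=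
  Cen.step cyX cy2T (No.nil _ _ _ _ _) cyC2

theorem cyC : Cen s2 phi cyg [] (genW s2 cyW) :=
  Cen.step cyX cy1T (No.nil _ _ _ _ _) cyC1

theorem cl : ∀ c, Cm s2 [wpow [15] 1] c → ∃ w ∈ (grid [15] [17] 16 2), c = ev s2 w := fun c hc =>
  (mem_grid (by norm_num) (by norm_num) clE) c (cyC.top c hc)

theorem gE : ∀ e ∈ GE, ev s2 e.1 = ev s2 e.2 :=
  eqs_of_eq (eqs_append gE_0 gE_1) (by decide +kernel)

theorem out : Nat.card (Cfsg.Out Cfsg.Spor.Fi23) = 1 :=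
  have := card.1
  out_one (out_cases (p := 17) (by norm_num) (by rw [card.2.1]; norm_num)
    (rep2.ne (show neqB (nat_lit 19) (nat_lit 31671) T2 (ivl 0 15835) [14] [] = true by decide +kernel)) cxC.top cl oE (I := [1]) (by decide +kernel)
    (Obs.append (Obs.of rep2 ob0_ok) (Obs.append (Obs.of rep2 ob1_ok) (Obs.append (Obs.of rep2 ob2_ok) (Obs.append (Obs.of rep2 ob3_ok) (Obs.of rep2 ob4_ok))))))
    (gen_top_of_eq rep.top ext2.2) gE (by decide +kernel)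


end Cfsg.Agent.Comp.Fi23
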