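import Cfsg.Agent.Comp.Fi23.OutT

set_option autoImplicit false
set_option maxRecDepth 100000

namespace Cfsg.Agent.Comp.Fi23
open Cfsg.Agent.Comp

def E2 : List (List Nat × List Nat) :=
  [([14], [6, 3, 8, 1, 0, 5, 0, 7, 0, 2, 4]),
   ([15], [6, 7, 10, 11, 13, 10, 14, 11, 9, 2, 1, 13, 1, 2, 12, 13, 6, 13, 10, 5, 6, 0, 11, 0, 11, 4, 3, 13]),
   ([16], [3, 2, 12, 12, 13, 6, 13, 13, 12, 2, 3]),
   ([17], [16]),
   ([18], [15, 3, 10, 13, 16, 9, 11, 11, 16, 6, 3, 13, 6, 0, 13, 13, 0, 12, 5])]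

def eqs2_0L : List (List Nat × List Nat) :=
  [([14], [6, 3, 8, 1, 0, 5, 0, 7, 0, 2, 4]),
   ([15], [6, 7, 10, 11, 13, 10, 14, 11, 9, 2, 1, 13, 1, 2, 12, 13, 6, 13, 10, 5, 6, 0, 11, 0, 11, 4, 3, 13])]

def eqs2_1L : List (List Nat × List Nat) :=
  [([16], [3, 2, 12, 12, 13, 6, 13, 13, 12, 2, 3]),
   ([17], [16]),
   ([18], [15, 3, 10, 13, 16, 9, 11, 11, 16, 6, 3, 13, 6, 0, 13, 13, 0, 12, 5])]

theorem eqs2_0_0 : EqsP 31671 0 15 T2 eqs2_0L :=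
  eqsP_of ok2 (by norm_num) (by norm_num) (by norm_num) (show eqsP (nat_lit 31671) (nat_lit 15) (nat_lit 0) (nat_lit 15) T2 eqs2_0L = true by decide +kernel)

theorem eqs2_1_0 : EqsP 31671 0 15 T2 eqs2_1L :=
  eqsP_of ok2 (by norm_num) (by norm_num) (by norm_num) (show eqsP (nat_lit 31671) (nat_lit 15) (nat_lit 0) (nat_lit 15) T2 eqs2_1L = true by decide +kernel)

theorem eqs2_0 : ∀ e ∈ eqs2_0L, ev (sig T2) e.1 = ev (sig T2) e.2 := EqsP.eqs eqs2_0_0 ok2 (by norm_num)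

theorem eqs2_1 : ∀ e ∈ eqs2_1L, ev (sig T2) e.1 = ev (sig T2) e.2 := EqsP.eqs eqs2_1_0 ok2 (by norm_num)

theorem eqs2 : ∀ e ∈ E2, ev (sig T2) e.1 = ev (sig T2) e.2 :=
  (show (eqs2_0L ++ eqs2_1L) = E2 by decide +kernel) ▸ (eqs_append eqs2_0 eqs2_1)

noncomputable def s2 : ℕ → Cfsg.Spor.Fi23 := liftS phi (sig T2)

theorem inj : Function.Injective phi := card.2.2

theorem ext1 : Rep (liftS phi (sig T)) 14 31671 T phi ∧ ∀ x < 10, liftS phi (sig T) x = s x :=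
  rep.extend inj ok (fun _ _ => rfl) eqs (by decide +kernel) rfl

theorem rep1 : Rep (liftS phi (sig T)) 14 31671 T phi := ext1.1

theorem ext2 : Rep s2 19 31671 T2 phi ∧ ∀ x < 10, s2 x = s x := by
  have h1 := ext1
  have h2 := h1.1.extend inj ok2 (by intro x hx; interval_cases x <;> rfl) eqs2 (by decide +kernel) (L' := 19) rfl
  exact ⟨h2.1, fun x hx => (h2.2 x (by omega)).trans (h1.2 x hx)⟩

theorem rep2 : Rep s2 19 31671 T2 phi := ext2.1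

noncomputable def Is : List Nat := [ivl 0 1, ivl 1 3510, ivl 3511 28160]

theorem orbs : Orbs phi 31671 Is :=
  rep.orbs (by decide +kernel) stab.2 ((lall_eq _ _).mp (show lall (invS T W0) Is = true by decide +kernel))


end Cfsg.Agent.Comp.Fi23
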