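import Cfsg.Agent.Comp.Fi23.Base
import Cfsg.Agent.Comp.OutKit
import Cfsg.Agent.Comp.Fi23.OutN0

set_option autoImplicit false
set_option maxRecDepth 100000

namespace Cfsg.Agent.Comp.Fi23
open Cfsg.Agent.Comp

noncomputable def T2 : List Net := [n0, n1, n2, n3, n4, n5, n6, n7, n8, n9, n10, n11, n12, n13, on14, on15, on16, on17, on18]

theorem ok2 : TOK 31671 T2 :=
  (TOK.cons n0_ok (TOK.cons n1_ok (TOK.cons n2_ok (TOK.cons n3_ok (TOK.cons n4_ok (TOK.cons n5_ok (TOK.cons n6_ok (TOK.cons n7_ok (TOK.cons n8_ok (TOK.cons n9_ok (TOK.cons n10_ok (TOK.cons n11_ok (TOK.cons n12_ok (TOK.cons n13_ok (TOK.cons on14_ok (TOK.cons on15_ok (TOK.cons on16_ok (TOK.cons on17_ok (TOK.cons on18_ok (TOK.nil _))))))))))))))))))))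


end Cfsg.Agent.Comp.Fi23
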