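import Cfsg.Agent.Comp.Fi23.Nets

set_option autoImplicit false
set_option maxRecDepth 100000

namespace Cfsg.Agent.Comp.Fi23
open Cfsg.Agent.Comp

def sat_0L : List (List Nat) :=
  [[0, 0],
   [1, 1],
   [2, 2],
   [3, 3],
   [4, 4],
   [5, 5],
   [6, 6],
   [7, 7],
   [8, 8],
   [9, 9],
   [0, 1, 0, 1, 0, 1],
   [0, 2, 0, 2],
   [0, 3, 0, 3],
   [0, 4, 0, 4],
   [0, 5, 0, 5],
   [0, 6, 0, 6],
   [0, 7, 0, 7],
   [0, 8, 0, 8]]

def sat_1L : List (List Nat) :=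
  [[0, 9, 0, 9],
   [1, 2, 1, 2, 1, 2],
   [1, 3, 1, 3],
   [1, 4, 1, 4],
   [1, 5, 1, 5],
   [1, 6, 1, 6],
   [1, 7, 1, 7],
   [1, 8, 1, 8],
   [1, 9, 1, 9],
   [2, 3, 2, 3, 2, 3],
   [2, 4, 2, 4],
   [2, 5, 2, 5],
   [2, 6, 2, 6]]

def sat_2L : List (List Nat) :=
  [[2, 7, 2, 7],
   [2, 8, 2, 8],
   [2, 9, 2, 9],
   [3, 4, 3, 4, 3, 4],
   [3, 5, 3, 5],
   [3, 6, 3, 6],
   [3, 7, 3, 7],
   [3, 8, 3, 8, 3, 8],
   [3, 9, 3, 9],
   [4, 5, 4, 5, 4, 5],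
   [4, 6, 4, 6],
   [4, 7, 4, 7]]

def sat_3L : List (List Nat) :=
  [[4, 8, 4, 8],
   [4, 9, 4, 9],
   [5, 6, 5, 6, 5, 6],
   [5, 7, 5, 7],
   [5, 8, 5, 8],
   [5, 9, 5, 9],
   [6, 7, 6, 7, 6, 7],
   [6, 8, 6, 8],
   [6, 9, 6, 9],
   [7, 8, 7, 8],
   [7, 9, 7, 9],
   [8, 9, 8, 9, 8, 9]]

def sat_4L : List (List Nat) :=
  [[3, 2, 1, 3, 4, 5, 3, 8, 9, 3, 2, 1, 3, 4, 5, 3, 8, 9, 3, 2, 1, 3, 4, 5, 3, 8, 9, 3, 2, 1, 3, 4, 5, 3, 8, 9, 3, 2, 1, 3, 4, 5, 3, 8, 9, 3, 2, 1, 3, 4, 5, 3, 8, 9, 3, 2, 1, 3, 4, 5, 3, 8, 9, 3, 2, 1, 3, 4, 5, 3, 8, 9, 3, 2, 1, 3, 4, 5, 3, 8, 9, 3, 2, 1, 3, 4, 5, 3, 8, 9]]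

def sat_5L : List (List Nat) :=
  [[0, 1, 2, 3, 4, 5, 8, 0, 1, 2, 3, 4, 5, 8, 0, 1, 2, 3, 4, 5, 8, 0, 1, 2, 3, 4, 5, 8, 0, 1, 2, 3, 4, 5, 8, 0, 1, 2, 3, 4, 5, 8, 0, 1, 2, 3, 4, 5, 8, 0, 1, 2, 3, 4, 5, 8, 0, 1, 2, 3, 4, 5, 8]]

theorem sat_0_0 : SatP 31671 0 15 T sat_0L :=
  satP_of_relsP ok (by norm_num) (by norm_num) (by norm_num) (show relsP (nat_lit 31671) (nat_lit 15) (nat_lit 0) (nat_lit 15) T sat_0L = true by decide +kernel)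

theorem sat_1_0 : SatP 31671 0 15 T sat_1L :=
  satP_of_relsP ok (by norm_num) (by norm_num) (by norm_num) (show relsP (nat_lit 31671) (nat_lit 15) (nat_lit 0) (nat_lit 15) T sat_1L = true by decide +kernel)

theorem sat_2_0 : SatP 31671 0 15 T sat_2L :=
  satP_of_relsP ok (by norm_num) (by norm_num) (by norm_num) (show relsP (nat_lit 31671) (nat_lit 15) (nat_lit 0) (nat_lit 15) T sat_2L = true by decide +kernel)

theorem sat_3_0 : SatP 31671 0 15 T sat_3L :=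
  satP_of_relsP ok (by norm_num) (by norm_num) (by norm_num) (show relsP (nat_lit 31671) (nat_lit 15) (nat_lit 0) (nat_lit 15) T sat_3L = true by decide +kernel)

theorem sat_4_0 : SatP 31671 0 8 T sat_4L :=
  satP_of_relsP ok (by norm_num) (by norm_num) (by norm_num) (show relsP (nat_lit 31671) (nat_lit 15) (nat_lit 0) (nat_lit 8) T sat_4L = true by decide +kernel)

theorem sat_4_8 : SatP 31671 8 15 T sat_4L :=
  satP_of_relsP ok (by norm_num) (by norm_num) (by norm_num) (show relsP (nat_lit 31671) (nat_lit 15) (nat_lit 8) (nat_lit 7) T sat_4L = true by decide +kernel)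

theorem sat_5_0 : SatP 31671 0 8 T sat_5L :=
  satP_of_relsP ok (by norm_num) (by norm_num) (by norm_num) (show relsP (nat_lit 31671) (nat_lit 15) (nat_lit 0) (nat_lit 8) T sat_5L = true by decide +kernel)

theorem sat_5_8 : SatP 31671 8 15 T sat_5L :=
  satP_of_relsP ok (by norm_num) (by norm_num) (by norm_num) (show relsP (nat_lit 31671) (nat_lit 15) (nat_lit 8) (nat_lit 7) T sat_5L = true by decide +kernel)

theorem sat_0 : Sat (sig T) sat_0L := SatP.sat sat_0_0 ok (by norm_num)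

theorem sat_1 : Sat (sig T) sat_1L := SatP.sat sat_1_0 ok (by norm_num)

theorem sat_2 : Sat (sig T) sat_2L := SatP.sat sat_2_0 ok (by norm_num)

theorem sat_3 : Sat (sig T) sat_3L := SatP.sat sat_3_0 ok (by norm_num)

theorem sat_4 : Sat (sig T) sat_4L := SatP.sat (SatP.join sat_4_0 sat_4_8) ok (by norm_num)

theorem sat_5 : Sat (sig T) sat_5L := SatP.sat (SatP.join sat_5_0 sat_5_8) ok (by norm_num)

theorem sat : Sat (sig T) R :=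
  (show (sat_0L ++ (sat_1L ++ (sat_2L ++ (sat_3L ++ (sat_4L ++ sat_5L))))) = R by decide +kernel) ▸ (Sat.append sat_0 (Sat.append sat_1 (Sat.append sat_2 (Sat.append sat_3 (Sat.append sat_4 sat_5)))))


end Cfsg.Agent.Comp.Fi23
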