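import Cfsg.Agent.Comp.TC
import Cfsg.Agent.Comp.Fi23.Tk0T0

set_option autoImplicit false
set_option maxRecDepth 100000

namespace Cfsg.Agent.Comp.Fi23.Tk0
open Cfsg.Agent.Comp

noncomputable def T : Tr := (Tr.node (nat_lit 447) (Tr.node (nat_lit 191) (Tr.node (nat_lit 63) t0 (Tr.node (nat_lit 127) t1 t2)) (Tr.node (nat_lit 319) (Tr.node (nat_lit 255) t3 t4) (Tr.node (nat_lit 383) t5 t6))) (Tr.node (nat_lit 639) (Tr.node (nat_lit 511) t7 (Tr.node (nat_lit 575) t8 t9)) (Tr.node (nat_lit 767) (Tr.node (nat_lit 703) t10 t11) (Tr.node (nat_lit 831) t12 t13))))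

def RT : List (List (List Nat)) := [
  [[nat_lit 8, nat_lit 0, nat_lit 8],
   [nat_lit 4, nat_lit 0, nat_lit 4],
   [nat_lit 7, nat_lit 0, nat_lit 7],
   [nat_lit 3, nat_lit 0, nat_lit 3],
   [nat_lit 5, nat_lit 0, nat_lit 5],
   [nat_lit 2, nat_lit 0, nat_lit 2],
   [nat_lit 6, nat_lit 0, nat_lit 6],
   [nat_lit 1, nat_lit 0, nat_lit 1, nat_lit 0, nat_lit 1],
   [nat_lit 1, nat_lit 2, nat_lit 3, nat_lit 4, nat_lit 5, nat_lit 7, nat_lit 0, nat_lit 1, nat_lit 2, nat_lit 3, nat_lit 4, nat_lit 5, nat_lit 7, nat_lit 0, nat_lit 1, nat_lit 2, nat_lit 3, nat_lit 4, nat_lit 5, nat_lit 7, nat_lit 0, nat_lit 1, nat_lit 2, nat_lit 3, nat_lit 4, nat_lit 5, nat_lit 7, nat_lit 0, nat_lit 1, nat_lit 2, nat_lit 3, nat_lit 4, nat_lit 5, nat_lit 7, nat_lit 0, nat_lit 1, nat_lit 2, nat_lit 3, nat_lit 4, nat_lit 5, nat_lit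 7, nat_lit 0, nat_lit 1, nat_lit 2, nat_lit 3, nat_lit 4, nat_lit 5, nat_lit 7, nat_lit 0, nat_lit 1, nat_lit 2, nat_lit 3, nat_lit 4, nat_lit 5, nat_lit 7, nat_lit 0, nat_lit 1, nat_lit 2, nat_lit 3, nat_lit 4, nat_lit 5, nat_lit 7]],
  [[nat_lit 8, nat_lit 1, nat_lit 8],
   [nat_lit 4, nat_lit 1, nat_lit 4],
   [nat_lit 7, nat_lit 1, nat_lit 7],
   [nat_lit 3, nat_lit 1, nat_lit 3],
   [nat_lit 5, nat_lit 1, nat_lit 5],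
   [nat_lit 6, nat_lit 1, nat_lit 6],
   [nat_lit 0, nat_lit 1, nat_lit 0, nat_lit 1, nat_lit 0],
   [nat_lit 2, nat_lit 1, nat_lit 2, nat_lit 1, nat_lit 2],
   [nat_lit 10]],
  [[nat_lit 8, nat_lit 2, nat_lit 8],
   [nat_lit 4, nat_lit 2, nat_lit 4],
   [nat_lit 7, nat_lit 2, nat_lit 7],
   [nat_lit 5, nat_lit 2, nat_lit 5],
   [nat_lit 6, nat_lit 2, nat_lit 6],
   [nat_lit 1, nat_lit 2, nat_lit 1, nat_lit 2, nat_lit 1],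
   [nat_lit 0, nat_lit 2, nat_lit 0],
   [nat_lit 3, nat_lit 2, nat_lit 3, nat_lit 2, nat_lit 3],
   [nat_lit 10],
   [nat_lit 3, nat_lit 4, nat_lit 5, nat_lit 7, nat_lit 0, nat_lit 1, nat_lit 2, nat_lit 3, nat_lit 4, nat_lit 5, nat_lit 7, nat_lit 0, nat_lit 1, nat_lit 2, nat_lit 3, nat_lit 4, nat_lit 5, nat_lit 7, nat_lit 0, nat_lit 1, nat_lit 2, nat_lit 3, nat_lit 4, nat_lit 5, nat_lit 7, nat_lit 0, nat_lit 1, nat_lit 2, nat_lit 3, nat_lit 4, nat_lit 5, nat_lit 7, nat_lit 0, nat_lit 1, nat_lit 2, nat_lit 3, nat_lit 4, nat_lit 5, nat_lit 7, nat_lit 0, nat_lit 1, nat_lit 2, nat_lit 3, nat_lit 4, nat_lit 5, nat_lit 7, nat_lit 0, nat_lit 1, nat_lit 2, nat_lit 3, nat_lit 4, nat_lit 5, nat_lit 7, nat_lit 0, nat_lit 1, nat_lit 2, nat_lit 3, nat_lit 4, nat_lit 5, nat_lit 7, nat_lit 0, nat_lit 1]],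
  [[nat_lit 8, nat_lit 3, nat_lit 8],
   [nat_lit 5, nat_lit 3, nat_lit 5],
   [nat_lit 6, nat_lit 3, nat_lit 6],
   [nat_lit 4, nat_lit 3, nat_lit 4, nat_lit 3, nat_lit 4],
   [nat_lit 1, nat_lit 3, nat_lit 1],
   [nat_lit 0, nat_lit 3, nat_lit 0],
   [nat_lit 2, nat_lit 3, nat_lit 2, nat_lit 3, nat_lit 2],
   [nat_lit 7, nat_lit 3, nat_lit 7, nat_lit 3, nat_lit 7],
   [nat_lit 10],
   [nat_lit 2, nat_lit 1, nat_lit 0, nat_lit 7, nat_lit 5, nat_lit 4, nat_lit 3, nat_lit 2, nat_lit 1, nat_lit 0, nat_lit 7, nat_lit 5, nat_lit 4, nat_lit 3, nat_lit 2, nat_lit 1, nat_lit 0, nat_lit 7, nat_lit 5, nat_lit 4, nat_lit 3, nat_lit 2, nat_lit 1, nat_lit 0, nat_lit 7, nat_lit 5, nat_lit 4, nat_lit 3, nat_lit 2, nat_lit 1, nat_lit 0, nat_lit 7, nat_lit 5, nat_lit 4, nat_lit 3, nat_lit 2, nat_lit 1, nat_lit 0, nat_lit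 7, nat_lit 5, nat_lit 4, nat_lit 3, nat_lit 2, nat_lit 1, nat_lit 0, nat_lit 7, nat_lit 5, nat_lit 4, nat_lit 3, nat_lit 2, nat_lit 1, nat_lit 0, nat_lit 7, nat_lit 5, nat_lit 4, nat_lit 3, nat_lit 2, nat_lit 1, nat_lit 0, nat_lit 7, nat_lit 5, nat_lit 4]],
  [[nat_lit 7, nat_lit 4, nat_lit 7],
   [nat_lit 8, nat_lit 4, nat_lit 8],
   [nat_lit 6, nat_lit 4, nat_lit 6],
   [nat_lit 5, nat_lit 4, nat_lit 5, nat_lit 4, nat_lit 5],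
   [nat_lit 1, nat_lit 4, nat_lit 1],
   [nat_lit 2, nat_lit 4, nat_lit 2],
   [nat_lit 0, nat_lit 4, nat_lit 0],
   [nat_lit 3, nat_lit 4, nat_lit 3, nat_lit 4, nat_lit 3],
   [nat_lit 10]],
  [[nat_lit 7, nat_lit 5, nat_lit 7],
   [nat_lit 3, nat_lit 5, nat_lit 3],
   [nat_lit 8, nat_lit 5, nat_lit 8],
   [nat_lit 2, nat_lit 5, nat_lit 2],
   [nat_lit 1, nat_lit 5, nat_lit 1],
   [nat_lit 0, nat_lit 5, nat_lit 0],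
   [nat_lit 6, nat_lit 5, nat_lit 6, nat_lit 5, nat_lit 6],
   [nat_lit 4, nat_lit 5, nat_lit 4, nat_lit 5, nat_lit 4],
   [nat_lit 10],
   [nat_lit 4, nat_lit 3, nat_lit 2, nat_lit 1, nat_lit 0, nat_lit 7, nat_lit 5, nat_lit 4, nat_lit 3, nat_lit 2, nat_lit 1, nat_lit 0, nat_lit 7, nat_lit 5, nat_lit 4, nat_lit 3, nat_lit 2, nat_lit 1, nat_lit 0, nat_lit 7, nat_lit 5, nat_lit 4, nat_lit 3, nat_lit 2, nat_lit 1, nat_lit 0, nat_lit 7, nat_lit 5, nat_lit 4, nat_lit 3, nat_lit 2, nat_lit 1, nat_lit 0, nat_lit 7, nat_lit 5, nat_lit 4, nat_lit 3, nat_lit 2, nat_lit 1, nat_lit 0, nat_lit 7, nat_lit 5, nat_lit 4, nat_lit 3, nat_lit 2, nat_lit 1, nat_lit 0, nat_lit 7, nat_lit 5, nat_lit 4, nat_lit 3, nat_lit 2, nat_lit 1, nat_lit 0, nat_lit 7, nat_lit 5, nat_lit 4, nat_lit 3, nat_lit 2, nat_lit 1, nat_lit 0, nat_lit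 7],
   [nat_lit 4, nat_lit 3, nat_lit 1, nat_lit 2, nat_lit 3, nat_lit 8, nat_lit 7, nat_lit 3, nat_lit 5, nat_lit 4, nat_lit 3, nat_lit 1, nat_lit 2, nat_lit 3, nat_lit 8, nat_lit 7, nat_lit 3, nat_lit 5, nat_lit 4, nat_lit 3, nat_lit 1, nat_lit 2, nat_lit 3, nat_lit 8, nat_lit 7, nat_lit 3, nat_lit 5, nat_lit 4, nat_lit 3, nat_lit 1, nat_lit 2, nat_lit 3, nat_lit 8, nat_lit 7, nat_lit 3, nat_lit 5, nat_lit 4, nat_lit 3, nat_lit 1, nat_lit 2, nat_lit 3, nat_lit 8, nat_lit 7, nat_lit 3, nat_lit 5, nat_lit 4, nat_lit 3, nat_lit 1, nat_lit 2, nat_lit 3, nat_lit 8, nat_lit 7, nat_lit 3, nat_lit 5, nat_lit 4, nat_lit 3, nat_lit 1, nat_lit 2, nat_lit 3, nat_lit 8, nat_lit 7, nat_lit 3, nat_lit 5, nat_lit 4, nat_lit 3, nat_lit 1, nat_lit 2, nat_lit 3, nat_lit 8, nat_lit 7, nat_lit 3, nat_lit 5, nat_lit 4, nat_lit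 3, nat_lit 1, nat_lit 2, nat_lit 3, nat_lit 8, nat_lit 7, nat_lit 3, nat_lit 5, nat_lit 4, nat_lit 3, nat_lit 1, nat_lit 2, nat_lit 3, nat_lit 8, nat_lit 7, nat_lit 3]],
  [[nat_lit 7, nat_lit 6, nat_lit 7],
   [nat_lit 3, nat_lit 6, nat_lit 3],
   [nat_lit 8, nat_lit 6, nat_lit 8],
   [nat_lit 2, nat_lit 6, nat_lit 2],
   [nat_lit 4, nat_lit 6, nat_lit 4],
   [nat_lit 1, nat_lit 6, nat_lit 1],
   [nat_lit 0, nat_lit 6, nat_lit 0],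
   [nat_lit 5, nat_lit 6, nat_lit 5, nat_lit 6, nat_lit 5],
   [nat_lit 10]],
  [[nat_lit 3, nat_lit 7, nat_lit 3, nat_lit 7, nat_lit 3],
   [nat_lit 1, nat_lit 7, nat_lit 1],
   [nat_lit 2, nat_lit 7, nat_lit 2],
   [nat_lit 4, nat_lit 7, nat_lit 4],
   [nat_lit 6, nat_lit 7, nat_lit 6],
   [nat_lit 0, nat_lit 7, nat_lit 0],
   [nat_lit 5, nat_lit 7, nat_lit 5],
   [nat_lit 8, nat_lit 7, nat_lit 8, nat_lit 7, nat_lit 8],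
   [nat_lit 10],
   [nat_lit 7]],
  [[nat_lit 7, nat_lit 8, nat_lit 7, nat_lit 8, nat_lit 7],
   [nat_lit 1, nat_lit 8, nat_lit 1],
   [nat_lit 3, nat_lit 8, nat_lit 3],
   [nat_lit 6, nat_lit 8, nat_lit 6],
   [nat_lit 2, nat_lit 8, nat_lit 2],
   [nat_lit 4, nat_lit 8, nat_lit 4],
   [nat_lit 5, nat_lit 8, nat_lit 5],
   [nat_lit 0, nat_lit 8, nat_lit 0],
   [nat_lit 10]],
  [[nat_lit 7, nat_lit 8, nat_lit 7, nat_lit 8, nat_lit 7, nat_lit 8],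
   [nat_lit 2, nat_lit 2],
   [nat_lit 5, nat_lit 5],
   [nat_lit 4, nat_lit 4]]]

def HT : List (List (Nat × Nat × Nat)) := [
  [(0, 16, 1), (0, 12, 1), (0, 15, 1), (0, 11, 1), (0, 13, 1), (0, 10, 1), (0, 14, 1), (0, 9, 1), (0, 46, 1)],
  [(0, 23, 1), (0, 19, 1), (0, 22, 1), (0, 18, 1), (0, 20, 1), (0, 21, 1), (0, 9, 0), (0, 17, 1), (2, 0, 0)],
  [(0, 29, 1), (0, 25, 1), (0, 28, 1), (0, 26, 1), (0, 27, 1), (0, 17, 0), (0, 10, 0), (0, 24, 1), (2, 1, 0), (0, 46, 3)],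
  [(0, 34, 1), (0, 31, 1), (0, 32, 1), (0, 30, 1), (0, 18, 0), (0, 11, 0), (0, 24, 0), (0, 33, 1), (2, 2, 0), (1, 46, 4)],
  [(0, 37, 1), (0, 38, 1), (0, 36, 1), (0, 35, 1), (0, 19, 0), (0, 25, 0), (0, 12, 0), (0, 30, 0), (2, 3, 0)],
  [(0, 40, 1), (0, 31, 0), (0, 41, 1), (0, 26, 0), (0, 20, 0), (0, 13, 0), (0, 39, 1), (0, 35, 0), (2, 4, 0), (1, 46, 2), (1, 45, 4)],
  [(0, 42, 1), (0, 32, 0), (0, 43, 1), (0, 27, 0), (0, 36, 0), (0, 21, 0), (0, 14, 0), (0, 39, 0), (2, 5, 0)],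
  [(0, 33, 0), (0, 22, 0), (0, 28, 0), (0, 37, 0), (0, 42, 0), (0, 15, 0), (0, 40, 0), (0, 44, 1), (2, 6, 0), (0, 7, 0)],
  [(0, 44, 0), (0, 23, 0), (0, 34, 0), (0, 43, 0), (0, 29, 0), (0, 38, 0), (0, 41, 0), (0, 16, 0), (2, 7, 0)],
  [(0, 44, 0), (0, 2, 0), (0, 5, 0), (0, 4, 0)]]

def R : List (List Nat) :=
  [[0, 0],
   [1, 1],
   [2, 2],
   [3, 3],
   [4, 4],
   [5, 5],
   [6, 6],
   [7, 7],
   [8, 8],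
   [0, 1, 0, 1, 0, 1],
   [0, 2, 0, 2],
   [0, 3, 0, 3],
   [0, 4, 0, 4],
   [0, 5, 0, 5],
   [0, 6, 0, 6],
   [0, 7, 0, 7],
   [0, 8, 0, 8],
   [1, 2, 1, 2, 1, 2],
   [1, 3, 1, 3],
   [1, 4, 1, 4],
   [1, 5, 1, 5],
   [1, 6, 1, 6],
   [1, 7, 1, 7],
   [1, 8, 1, 8],
   [2, 3, 2, 3, 2, 3],
   [2, 4, 2, 4],
   [2, 5, 2, 5],
   [2, 6, 2, 6],
   [2, 7, 2, 7],
   [2, 8, 2, 8],
   [3, 4, 3, 4, 3, 4],
   [3, 5, 3, 5],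
   [3, 6, 3, 6],
   [3, 7, 3, 7, 3, 7],
   [3, 8, 3, 8],
   [4, 5, 4, 5, 4, 5],
   [4, 6, 4, 6],
   [4, 7, 4, 7],
   [4, 8, 4, 8],
   [5, 6, 5, 6, 5, 6],
   [5, 7, 5, 7],
   [5, 8, 5, 8],
   [6, 7, 6, 7],
   [6, 8, 6, 8],
   [7, 8, 7, 8, 7, 8],
   [3, 2, 1, 3, 4, 5, 3, 7, 8, 3, 2, 1, 3, 4, 5, 3, 7, 8, 3, 2, 1, 3, 4, 5, 3, 7, 8, 3, 2, 1, 3, 4, 5, 3, 7, 8, 3, 2, 1, 3, 4, 5, 3, 7, 8, 3, 2, 1, 3, 4, 5, 3, 7, 8, 3, 2, 1, 3, 4, 5, 3, 7, 8, 3, 2, 1, 3, 4, 5, 3, 7, 8, 3, 2, 1, 3, 4, 5, 3, 7, 8, 3, 2, 1, 3, 4, 5, 3, 7, 8],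
   [0, 1, 2, 3, 4, 5, 7, 0, 1, 2, 3, 4, 5, 7, 0, 1, 2, 3, 4, 5, 7, 0, 1, 2, 3, 4, 5, 7, 0, 1, 2, 3, 4, 5, 7, 0, 1, 2, 3, 4, 5, 7, 0, 1, 2, 3, 4, 5, 7, 0, 1, 2, 3, 4, 5, 7, 0, 1, 2, 3, 4, 5, 7]]

def W : List (List Nat) := [[1],
   [2],
   [3],
   [4],
   [5],
   [6],
   [7],
   [8]]

noncomputable def P : Par := ⟨T, (nat_lit 4), (nat_lit 15), (nat_lit 275), (nat_lit 25), (nat_lit 33554431), (nat_lit 14), (nat_lit 16383), (nat_lit 9), (nat_lit 14096), (nat_lit 14192), (nat_lit 0x2928398a418820), RT⟩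


end Cfsg.Agent.Comp.Fi23.Tk0
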