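import Cfsg.Agent.Comp.TC
import Cfsg.Agent.Comp.Fi23.Pres
import Cfsg.Agent.Comp.Fi23.TopT0

set_option autoImplicit false
set_option maxRecDepth 100000

namespace Cfsg.Agent.Comp.Fi23.Top
open Cfsg.Agent.Comp

noncomputable def T : Tr := (Tr.node (nat_lit 1023) (Tr.node (nat_lit 511) (Tr.node (nat_lit 255) (Tr.node (nat_lit 127) (Tr.node (nat_lit 63) t0 t1) (Tr.node (nat_lit 191) t2 t3)) (Tr.node (nat_lit 383) (Tr.node (nat_lit 319) t4 t5) (Tr.node (nat_lit 447) t6 t7))) (Tr.node (nat_lit 767) (Tr.node (nat_lit 639) (Tr.node (nat_lit 575) t8 t9) (Tr.node (nat_lit 703) t10 t11)) (Tr.node (nat_lit 895) (Tr.node (nat_lit 831) t12 t13) (Tr.node (nat_lit 959) t14 t15)))) (Tr.node (nat_lit 1535) (Tr.node (nat_lit 1279) (Tr.node (nat_lit 1151) (Tr.node (nat_lit 1087) t16 t17) (Tr.node (nat_lit 1215) t18 t19)) (Tr.node (nat_lit 1407)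 (Tr.node (nat_lit 1343) t20 t21) (Tr.node (nat_lit 1471) t22 t23))) (Tr.node (nat_lit 1791) (Tr.node (nat_lit 1663) (Tr.node (nat_lit 1599) t24 t25) (Tr.node (nat_lit 1727) t26 t27)) (Tr.node (nat_lit 1919) (Tr.node (nat_lit 1855) t28 t29) (Tr.node (nat_lit 1983) t30 t31)))))

def RT : List (List (List Nat)) := [
  [[nat_lit 8, nat_lit 0, nat_lit 8],
   [nat_lit 3, nat_lit 0, nat_lit 3],
   [nat_lit 9, nat_lit 0, nat_lit 9],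
   [nat_lit 2, nat_lit 0, nat_lit 2],
   [nat_lit 4, nat_lit 0, nat_lit 4],
   [nat_lit 5, nat_lit 0, nat_lit 5],
   [nat_lit 6, nat_lit 0, nat_lit 6],
   [nat_lit 7, nat_lit 0, nat_lit 7],
   [nat_lit 1, nat_lit 0, nat_lit 1, nat_lit 0, nat_lit 1],
   [nat_lit 11],
   [nat_lit 8, nat_lit 5, nat_lit 4, nat_lit 3, nat_lit 2, nat_lit 1, nat_lit 0, nat_lit 8, nat_lit 5, nat_lit 4, nat_lit 3, nat_lit 2, nat_lit 1, nat_lit 0, nat_lit 8, nat_lit 5, nat_lit 4, nat_lit 3, nat_lit 2, nat_lit 1, nat_lit 0, nat_lit 8, nat_lit 5, nat_lit 4, nat_lit 3, nat_lit 2, nat_lit 1, nat_lit 0, nat_lit 8, nat_lit 5, nat_lit 4, nat_lit 3, nat_lit 2, nat_lit 1, nat_lit 0, nat_lit 8, nat_lit 5, nat_lit 4, nat_lit 3, nat_lit 2, nat_lit 1, nat_lit 0, nat_lit 8, nat_lit 5, nat_lit 4, nat_lit 3, nat_lit 2, nat_lit 1, nat_lit 0, nat_lit 8, nat_lit 5, nat_lit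 4, nat_lit 3, nat_lit 2, nat_lit 1, nat_lit 0, nat_lit 8, nat_lit 5, nat_lit 4, nat_lit 3, nat_lit 2, nat_lit 1]],
  [[nat_lit 8, nat_lit 1, nat_lit 8],
   [nat_lit 3, nat_lit 1, nat_lit 3],
   [nat_lit 9, nat_lit 1, nat_lit 9],
   [nat_lit 4, nat_lit 1, nat_lit 4],
   [nat_lit 5, nat_lit 1, nat_lit 5],
   [nat_lit 6, nat_lit 1, nat_lit 6],
   [nat_lit 7, nat_lit 1, nat_lit 7],
   [nat_lit 0, nat_lit 1, nat_lit 0, nat_lit 1, nat_lit 0],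
   [nat_lit 2, nat_lit 1, nat_lit 2, nat_lit 1, nat_lit 2],
   [nat_lit 11],
   [nat_lit 1]],
  [[nat_lit 8, nat_lit 2, nat_lit 8],
   [nat_lit 9, nat_lit 2, nat_lit 9],
   [nat_lit 4, nat_lit 2, nat_lit 4],
   [nat_lit 5, nat_lit 2, nat_lit 5],
   [nat_lit 6, nat_lit 2, nat_lit 6],
   [nat_lit 7, nat_lit 2, nat_lit 7],
   [nat_lit 1, nat_lit 2, nat_lit 1, nat_lit 2, nat_lit 1],
   [nat_lit 0, nat_lit 2, nat_lit 0],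
   [nat_lit 3, nat_lit 2, nat_lit 3, nat_lit 2, nat_lit 3],
   [nat_lit 11],
   [nat_lit 3, nat_lit 4, nat_lit 5, nat_lit 8, nat_lit 0, nat_lit 1, nat_lit 2, nat_lit 3, nat_lit 4, nat_lit 5, nat_lit 8, nat_lit 0, nat_lit 1, nat_lit 2, nat_lit 3, nat_lit 4, nat_lit 5, nat_lit 8, nat_lit 0, nat_lit 1, nat_lit 2, nat_lit 3, nat_lit 4, nat_lit 5, nat_lit 8, nat_lit 0, nat_lit 1, nat_lit 2, nat_lit 3, nat_lit 4, nat_lit 5, nat_lit 8, nat_lit 0, nat_lit 1, nat_lit 2, nat_lit 3, nat_lit 4, nat_lit 5, nat_lit 8, nat_lit 0, nat_lit 1, nat_lit 2, nat_lit 3, nat_lit 4, nat_lit 5, nat_lit 8, nat_lit 0, nat_lit 1, nat_lit 2, nat_lit 3, nat_lit 4, nat_lit 5, nat_lit 8, nat_lit 0, nat_lit 1, nat_lit 2, nat_lit 3, nat_lit 4, nat_lit 5, nat_lit 8, nat_lit 0, nat_lit 1],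
   [nat_lit 2],
   [nat_lit 1, nat_lit 0, nat_lit 8, nat_lit 5, nat_lit 4, nat_lit 3, nat_lit 2, nat_lit 1, nat_lit 0, nat_lit 8, nat_lit 5, nat_lit 4, nat_lit 3, nat_lit 2, nat_lit 1, nat_lit 0, nat_lit 8, nat_lit 5, nat_lit 4, nat_lit 3, nat_lit 2, nat_lit 1, nat_lit 0, nat_lit 8, nat_lit 5, nat_lit 4, nat_lit 3, nat_lit 2, nat_lit 1, nat_lit 0, nat_lit 8, nat_lit 5, nat_lit 4, nat_lit 3, nat_lit 2, nat_lit 1, nat_lit 0, nat_lit 8, nat_lit 5, nat_lit 4, nat_lit 3, nat_lit 2, nat_lit 1, nat_lit 0, nat_lit 8, nat_lit 5, nat_lit 4, nat_lit 3, nat_lit 2, nat_lit 1, nat_lit 0, nat_lit 8, nat_lit 5, nat_lit 4, nat_lit 3, nat_lit 2, nat_lit 1, nat_lit 0, nat_lit 8, nat_lit 5, nat_lit 4, nat_lit 3],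
   [nat_lit 1, nat_lit 3, nat_lit 4, nat_lit 5, nat_lit 3, nat_lit 8, nat_lit 9, nat_lit 3, nat_lit 2, nat_lit 1, nat_lit 3, nat_lit 4, nat_lit 5, nat_lit 3, nat_lit 8, nat_lit 9, nat_lit 3, nat_lit 2, nat_lit 1, nat_lit 3, nat_lit 4, nat_lit 5, nat_lit 3, nat_lit 8, nat_lit 9, nat_lit 3, nat_lit 2, nat_lit 1, nat_lit 3, nat_lit 4, nat_lit 5, nat_lit 3, nat_lit 8, nat_lit 9, nat_lit 3, nat_lit 2, nat_lit 1, nat_lit 3, nat_lit 4, nat_lit 5, nat_lit 3, nat_lit 8, nat_lit 9, nat_lit 3, nat_lit 2, nat_lit 1, nat_lit 3, nat_lit 4, nat_lit 5, nat_lit 3, nat_lit 8, nat_lit 9, nat_lit 3, nat_lit 2, nat_lit 1, nat_lit 3, nat_lit 4, nat_lit 5, nat_lit 3, nat_lit 8, nat_lit 9, nat_lit 3, nat_lit 2, nat_lit 1, nat_lit 3, nat_lit 4, nat_lit 5, nat_lit 3, nat_lit 8, nat_lit 9, nat_lit 3, nat_lit 2, nat_lit 1, nat_lit 3, nat_lit 4, nat_lit 5,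 nat_lit 3, nat_lit 8, nat_lit 9, nat_lit 3, nat_lit 2, nat_lit 1, nat_lit 3, nat_lit 4, nat_lit 5, nat_lit 3, nat_lit 8, nat_lit 9, nat_lit 3]],
  [[nat_lit 9, nat_lit 3, nat_lit 9],
   [nat_lit 5, nat_lit 3, nat_lit 5],
   [nat_lit 6, nat_lit 3, nat_lit 6],
   [nat_lit 7, nat_lit 3, nat_lit 7],
   [nat_lit 4, nat_lit 3, nat_lit 4, nat_lit 3, nat_lit 4],
   [nat_lit 0, nat_lit 3, nat_lit 0],
   [nat_lit 1, nat_lit 3, nat_lit 1],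
   [nat_lit 2, nat_lit 3, nat_lit 2, nat_lit 3, nat_lit 2],
   [nat_lit 8, nat_lit 3, nat_lit 8, nat_lit 3, nat_lit 8],
   [nat_lit 11],
   [nat_lit 2, nat_lit 1, nat_lit 0, nat_lit 8, nat_lit 5, nat_lit 4, nat_lit 3, nat_lit 2, nat_lit 1, nat_lit 0, nat_lit 8, nat_lit 5, nat_lit 4, nat_lit 3, nat_lit 2, nat_lit 1, nat_lit 0, nat_lit 8, nat_lit 5, nat_lit 4, nat_lit 3, nat_lit 2, nat_lit 1, nat_lit 0, nat_lit 8, nat_lit 5, nat_lit 4, nat_lit 3, nat_lit 2, nat_lit 1, nat_lit 0, nat_lit 8, nat_lit 5, nat_lit 4, nat_lit 3, nat_lit 2, nat_lit 1, nat_lit 0, nat_lit 8, nat_lit 5, nat_lit 4, nat_lit 3, nat_lit 2, nat_lit 1, nat_lit 0, nat_lit 8, nat_lit 5, nat_lit 4, nat_lit 3, nat_lit 2, nat_lit 1, nat_lit 0, nat_lit 8, nat_lit 5, nat_lit 4, nat_lit 3, nat_lit 2, nat_lit 1, nat_lit 0, nat_lit 8, nat_lit 5, nat_lit 4],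
   [nat_lit 8, nat_lit 9, nat_lit 3, nat_lit 2, nat_lit 1, nat_lit 3, nat_lit 4, nat_lit 5, nat_lit 3, nat_lit 8, nat_lit 9, nat_lit 3, nat_lit 2, nat_lit 1, nat_lit 3, nat_lit 4, nat_lit 5, nat_lit 3, nat_lit 8, nat_lit 9, nat_lit 3, nat_lit 2, nat_lit 1, nat_lit 3, nat_lit 4, nat_lit 5, nat_lit 3, nat_lit 8, nat_lit 9, nat_lit 3, nat_lit 2, nat_lit 1, nat_lit 3, nat_lit 4, nat_lit 5, nat_lit 3, nat_lit 8, nat_lit 9, nat_lit 3, nat_lit 2, nat_lit 1, nat_lit 3, nat_lit 4, nat_lit 5, nat_lit 3, nat_lit 8, nat_lit 9, nat_lit 3, nat_lit 2, nat_lit 1, nat_lit 3, nat_lit 4, nat_lit 5, nat_lit 3, nat_lit 8, nat_lit 9, nat_lit 3, nat_lit 2, nat_lit 1, nat_lit 3, nat_lit 4, nat_lit 5, nat_lit 3, nat_lit 8, nat_lit 9, nat_lit 3, nat_lit 2, nat_lit 1, nat_lit 3, nat_lit 4, nat_lit 5, nat_lit 3, nat_lit 8, nat_lit 9, nat_lit 3, nat_lit 2,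 nat_lit 1, nat_lit 3, nat_lit 4, nat_lit 5, nat_lit 3, nat_lit 8, nat_lit 9, nat_lit 3, nat_lit 2, nat_lit 1, nat_lit 3, nat_lit 4, nat_lit 5]],
  [[nat_lit 9, nat_lit 4, nat_lit 9],
   [nat_lit 8, nat_lit 4, nat_lit 8],
   [nat_lit 6, nat_lit 4, nat_lit 6],
   [nat_lit 7, nat_lit 4, nat_lit 7],
   [nat_lit 5, nat_lit 4, nat_lit 5, nat_lit 4, nat_lit 5],
   [nat_lit 0, nat_lit 4, nat_lit 0],
   [nat_lit 2, nat_lit 4, nat_lit 2],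
   [nat_lit 1, nat_lit 4, nat_lit 1],
   [nat_lit 3, nat_lit 4, nat_lit 3, nat_lit 4, nat_lit 3],
   [nat_lit 11],
   [nat_lit 5, nat_lit 3, nat_lit 8, nat_lit 9, nat_lit 3, nat_lit 2, nat_lit 1, nat_lit 3, nat_lit 4, nat_lit 5, nat_lit 3, nat_lit 8, nat_lit 9, nat_lit 3, nat_lit 2, nat_lit 1, nat_lit 3, nat_lit 4, nat_lit 5, nat_lit 3, nat_lit 8, nat_lit 9, nat_lit 3, nat_lit 2, nat_lit 1, nat_lit 3, nat_lit 4, nat_lit 5, nat_lit 3, nat_lit 8, nat_lit 9, nat_lit 3, nat_lit 2, nat_lit 1, nat_lit 3, nat_lit 4, nat_lit 5, nat_lit 3, nat_lit 8, nat_lit 9, nat_lit 3, nat_lit 2, nat_lit 1, nat_lit 3, nat_lit 4, nat_lit 5, nat_lit 3, nat_lit 8, nat_lit 9, nat_lit 3, nat_lit 2, nat_lit 1, nat_lit 3, nat_lit 4, nat_lit 5, nat_lit 3, nat_lit 8, nat_lit 9, nat_lit 3, nat_lit 2, nat_lit 1, nat_lit 3, nat_lit 4, nat_lit 5, nat_lit 3, nat_lit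 8, nat_lit 9, nat_lit 3, nat_lit 2, nat_lit 1, nat_lit 3, nat_lit 4, nat_lit 5, nat_lit 3, nat_lit 8, nat_lit 9, nat_lit 3, nat_lit 2, nat_lit 1, nat_lit 3, nat_lit 4, nat_lit 5, nat_lit 3, nat_lit 8, nat_lit 9, nat_lit 3, nat_lit 2, nat_lit 1, nat_lit 3]],
  [[nat_lit 9, nat_lit 5, nat_lit 9],
   [nat_lit 8, nat_lit 5, nat_lit 8],
   [nat_lit 3, nat_lit 5, nat_lit 3],
   [nat_lit 2, nat_lit 5, nat_lit 2],
   [nat_lit 1, nat_lit 5, nat_lit 1],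
   [nat_lit 0, nat_lit 5, nat_lit 0],
   [nat_lit 7, nat_lit 5, nat_lit 7],
   [nat_lit 6, nat_lit 5, nat_lit 6, nat_lit 5, nat_lit 6],
   [nat_lit 4, nat_lit 5, nat_lit 4, nat_lit 5, nat_lit 4],
   [nat_lit 11]],
  [[nat_lit 9, nat_lit 6, nat_lit 9],
   [nat_lit 8, nat_lit 6, nat_lit 8],
   [nat_lit 3, nat_lit 6, nat_lit 3],
   [nat_lit 2, nat_lit 6, nat_lit 2],
   [nat_lit 4, nat_lit 6, nat_lit 4],
   [nat_lit 1, nat_lit 6, nat_lit 1],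
   [nat_lit 0, nat_lit 6, nat_lit 0],
   [nat_lit 7, nat_lit 6, nat_lit 7, nat_lit 6, nat_lit 7],
   [nat_lit 5, nat_lit 6, nat_lit 5, nat_lit 6, nat_lit 5],
   [nat_lit 11]],
  [[nat_lit 9, nat_lit 7, nat_lit 9],
   [nat_lit 8, nat_lit 7, nat_lit 8],
   [nat_lit 3, nat_lit 7, nat_lit 3],
   [nat_lit 2, nat_lit 7, nat_lit 2],
   [nat_lit 4, nat_lit 7, nat_lit 4],
   [nat_lit 1, nat_lit 7, nat_lit 1],
   [nat_lit 5, nat_lit 7, nat_lit 5],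
   [nat_lit 0, nat_lit 7, nat_lit 0],
   [nat_lit 6, nat_lit 7, nat_lit 6, nat_lit 7, nat_lit 6]],
  [[nat_lit 3, nat_lit 8, nat_lit 3, nat_lit 8, nat_lit 3],
   [nat_lit 0, nat_lit 8, nat_lit 0],
   [nat_lit 2, nat_lit 8, nat_lit 2],
   [nat_lit 4, nat_lit 8, nat_lit 4],
   [nat_lit 5, nat_lit 8, nat_lit 5],
   [nat_lit 1, nat_lit 8, nat_lit 1],
   [nat_lit 6, nat_lit 8, nat_lit 6],
   [nat_lit 7, nat_lit 8, nat_lit 7],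
   [nat_lit 9, nat_lit 8, nat_lit 9, nat_lit 8, nat_lit 9],
   [nat_lit 11]],
  [[nat_lit 8, nat_lit 9, nat_lit 8, nat_lit 9, nat_lit 8],
   [nat_lit 0, nat_lit 9, nat_lit 0],
   [nat_lit 3, nat_lit 9, nat_lit 3],
   [nat_lit 5, nat_lit 9, nat_lit 5],
   [nat_lit 1, nat_lit 9, nat_lit 1],
   [nat_lit 2, nat_lit 9, nat_lit 2],
   [nat_lit 4, nat_lit 9, nat_lit 4],
   [nat_lit 6, nat_lit 9, nat_lit 6],
   [nat_lit 7, nat_lit 9, nat_lit 7],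
   [nat_lit 11]],
  [[nat_lit 4, nat_lit 3, nat_lit 4, nat_lit 3, nat_lit 4, nat_lit 3],
   [nat_lit 9, nat_lit 9],
   [nat_lit 4, nat_lit 2, nat_lit 4, nat_lit 2],
   [nat_lit 3, nat_lit 3],
   [nat_lit 1, nat_lit 1],
   [nat_lit 5, nat_lit 5],
   [nat_lit 2, nat_lit 3, nat_lit 9, nat_lit 8, nat_lit 3, nat_lit 5, nat_lit 4, nat_lit 3, nat_lit 1, nat_lit 2, nat_lit 3, nat_lit 9, nat_lit 8, nat_lit 3, nat_lit 5, nat_lit 4, nat_lit 3, nat_lit 1, nat_lit 2, nat_lit 3, nat_lit 9, nat_lit 8, nat_lit 3, nat_lit 5, nat_lit 4, nat_lit 3, nat_lit 1, nat_lit 2, nat_lit 3, nat_lit 9, nat_lit 8, nat_lit 3, nat_lit 5, nat_lit 4, nat_lit 3, nat_lit 1, nat_lit 2, nat_lit 3, nat_lit 9, nat_lit 8, nat_lit 3, nat_lit 5, nat_lit 4, nat_lit 3, nat_lit 1, nat_lit 2, nat_lit 3, nat_lit 9, nat_lit 8, nat_lit 3, nat_lit 5, nat_lit 4, nat_lit 3, nat_lit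 1, nat_lit 2, nat_lit 3, nat_lit 9, nat_lit 8, nat_lit 3, nat_lit 5, nat_lit 4, nat_lit 3, nat_lit 1, nat_lit 2, nat_lit 3, nat_lit 9, nat_lit 8, nat_lit 3, nat_lit 5, nat_lit 4, nat_lit 3, nat_lit 1, nat_lit 2, nat_lit 3, nat_lit 9, nat_lit 8, nat_lit 3, nat_lit 5, nat_lit 4, nat_lit 3, nat_lit 1, nat_lit 2, nat_lit 3, nat_lit 9, nat_lit 8, nat_lit 3, nat_lit 5, nat_lit 4, nat_lit 3, nat_lit 1],
   [nat_lit 2, nat_lit 2],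
   [nat_lit 0, nat_lit 0],
   [nat_lit 8, nat_lit 8]]]

def HT : List (List (Nat × Nat × Nat)) := [
  [(0, 17, 1), (0, 12, 1), (0, 18, 1), (0, 11, 1), (0, 13, 1), (0, 14, 1), (0, 15, 1), (0, 16, 1), (0, 10, 1), (2, 0, 0), (1, 56, 0)],
  [(0, 25, 1), (0, 20, 1), (0, 26, 1), (0, 21, 1), (0, 22, 1), (0, 23, 1), (0, 24, 1), (0, 10, 0), (0, 19, 1), (2, 1, 0), (0, 1, 0)],
  [(0, 32, 1), (0, 33, 1), (0, 28, 1), (0, 29, 1), (0, 30, 1), (0, 31, 1), (0, 19, 0), (0, 11, 0), (0, 27, 1), (2, 2, 0), (0, 56, 3), (0, 2, 0), (1, 56, 5), (0, 55, 2)],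
  [(0, 39, 1), (0, 35, 1), (0, 36, 1), (0, 37, 1), (0, 34, 1), (0, 12, 0), (0, 20, 0), (0, 27, 0), (0, 38, 1), (2, 3, 0), (1, 56, 4), (0, 55, 7)],
  [(0, 44, 1), (0, 43, 1), (0, 41, 1), (0, 42, 1), (0, 40, 1), (0, 13, 0), (0, 28, 0), (0, 21, 0), (0, 34, 0), (2, 4, 0), (0, 55, 5)],
  [(0, 48, 1), (0, 47, 1), (0, 35, 0), (0, 29, 0), (0, 22, 0), (0, 14, 0), (0, 46, 1), (0, 45, 1), (0, 40, 0), (2, 5, 0)],
  [(0, 51, 1), (0, 50, 1), (0, 36, 0), (0, 30, 0), (0, 41, 0), (0, 23, 0), (0, 15, 0), (0, 49, 1), (0, 45, 0), (2, 6, 0)],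
  [(0, 53, 1), (0, 52, 1), (0, 37, 0), (0, 31, 0), (0, 42, 0), (0, 24, 0), (0, 46, 0), (0, 16, 0), (0, 49, 0)],
  [(0, 38, 0), (0, 17, 0), (0, 32, 0), (0, 43, 0), (0, 47, 0), (0, 25, 0), (0, 50, 0), (0, 52, 0), (0, 54, 1), (2, 7, 0)],
  [(0, 54, 0), (0, 18, 0), (0, 39, 0), (0, 48, 0), (0, 26, 0), (0, 33, 0), (0, 44, 0), (0, 51, 0), (0, 53, 0), (2, 8, 0)],
  [(0, 34, 1), (0, 9, 0), (0, 28, 1), (0, 3, 0), (0, 1, 0), (0, 5, 0), (1, 55, 7), (0, 2, 0), (0, 0, 0), (0, 8, 0)]]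

def W : List (List Nat) := [[0],
   [1],
   [2],
   [3],
   [4],
   [5],
   [6],
   [8],
   [9]]

noncomputable def P : Par := ⟨T, (nat_lit 4), (nat_lit 15), (nat_lit 312), (nat_lit 26), (nat_lit 67108863), (nat_lit 15), (nat_lit 32767), (nat_lit 10), (nat_lit 31687), (nat_lit 31776), (nat_lit 0x5a928398a418820), RT⟩


end Cfsg.Agent.Comp.Fi23.Top
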